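import Groth.Agent.Misc15.MultH1.Forms
import Groth.Agent.SGA7.ConstPoints

/-!
A finite commutative constant group of invertible order as a form of a group algebra.
-/

set_option autoImplicit false
set_option linter.style.haveILetI false

universe u

open CategoryTheory CategoryTheory.Limits MonoidalCategory CartesianMonoidalCategory MonObj AlgebraicGeometry
  TensorProduct
open Groth.AlgGrp2 Groth.TorusPts Groth.Misc15.RatTorus Groth.SGA7.ConstPoints

noncomputable section

namespace Groth.Misc15.MultH1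

variable {k : Type u} [Field k]

local instance braidedAlgSpecConst (R : Type u) [CommRing R] : (algSpec (CommRingCat.of R)).Braided :=
  braidedAlgSpec

/-- the form of a Galois action -/
def formOf {E : Type u} [Field E] [Algebra k E] [FiniteDimensional k E] [IsGalois k E] {N : Type u}
    [CommGroup N] (ρ : (E ≃ₐ[k] E) →* (N ≃* N)) : Form k E :=
  ⟨(splitForm ρ).A, N, ρ, (splitForm ρ).e, (splitForm ρ).fixed⟩

theorem exists_galois_roots (C : Type u) [CommGroup C] [Finite C] (hC : IsUnit ((Nat.card C : ℕ) : k)) :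
    ∃ (E : Type u) (_ : Field E) (_ : Algebra k E), FiniteDimensional k E ∧ IsGalois k E ∧
      HasEnoughRootsOfUnity E (Monoid.exponent C) := by
  haveI : NeZero ((Nat.card C : ℕ) : k) := ⟨hC.ne_zero⟩
  haveI : NeZero (Nat.card C) := ⟨fun h => hC.ne_zero (by rw [h, Nat.cast_zero])⟩
  let E := CyclotomicField (Nat.card C) k
  haveI : IsCyclotomicExtension {Nat.card C} k E := CyclotomicField.isCyclotomicExtension _ k
  have hf : FiniteDimensional k E := IsCyclotomicExtension.finiteDimensional {Nat.card C} k E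
  have hg : IsGalois k E := IsCyclotomicExtension.isGalois {Nat.card C} k E
  obtain ⟨ζ, hζ⟩ := IsCyclotomicExtension.exists_isPrimitiveRoot k E (Set.mem_singleton (Nat.card C))
    (NeZero.ne _)
  haveI : HasEnoughRootsOfUnity E (Nat.card C) := ⟨⟨ζ, hζ⟩, rootsOfUnity.isCyclic E _⟩
  exact ⟨E, inferInstance, inferInstance, hf, hg, HasEnoughRootsOfUnity.of_dvd E Group.exponent_dvd_nat_card⟩

/-- A morphism out of a constant group multiplicative on the standard sections is multiplicative. -/
theorem mul_comp_of_pt {S : Scheme.{u}} {C : Type u} [Group C] {G H : Over S} [GrpObj G] [GrpObj H]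
    (e : G ≅ TwC.const S C) (he : TwC.IsConstGrp C G e) (ψ : G ⟶ H)
    (hpt : ∀ c c', (TwC.pt S C (c * c') ≫ e.inv) ≫ ψ =
      ((TwC.pt S C c ≫ e.inv) ≫ ψ) * ((TwC.pt S C c' ≫ e.inv) ≫ ψ))
    {T : Over S} (x y : T ⟶ G) : (x * y) ≫ ψ = (x ≫ ψ) * (y ≫ ψ) := by
  let U : C × C → T.left.Opens := fun m => ⟨ix e x ⁻¹' {m.1} ∩ ix e y ⁻¹' {m.2},
    (isLocallyConstant_ix x _).inter (isLocallyConstant_ix y _)⟩
  let 𝒰 := T.left.openCoverOfIsOpenCover U (.mk (top_le_iff.mp fun t _ =>
    TopologicalSpace.Opens.mem_iSup.mpr ⟨(ix e x t, ix e y t), rfl, rfl⟩))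
  refine Over.OverMorphism.ext (𝒰.hom_ext _ _ fun m => ?_)
  suffices h : pieceι T (U m) ≫ ((x * y) ≫ ψ) = pieceι T (U m) ≫ ((x ≫ ψ) * (y ≫ ψ)) from
    congrArg CommaMorphism.left h
  have hx : pieceι T (U m) ≫ x = toUnit _ ≫ TwC.pt S C m.1 ≫ e.inv :=
    eq_pt' _ m.1 fun z => (ix_comp _ _ z).trans z.2.1
  have hy : pieceι T (U m) ≫ y = toUnit _ ≫ TwC.pt S C m.2 ≫ e.inv :=
    eq_pt' _ m.2 fun z => (ix_comp _ _ z).trans z.2.2
  rw [← Category.assoc, MonObj.comp_mul, MonObj.comp_mul, ← Category.assoc, ← Category.assoc, hx, hy,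
    ← MonObj.comp_mul, he, Category.assoc, hpt, MonObj.comp_mul]
  simp only [Category.assoc]

/-- A family of rational points giving all functions on `C` identifies the form with the constant group. -/
theorem exists_iso_const {C : Type u} [CommGroup C] [Finite C] {C_ : Over (Spec (CommRingCat.of k))}
    [GrpObj C_] (e : C_ ≅ TwC.const (Spec (CommRingCat.of k)) C) (he : TwC.IsConstGrp C C_ e)
    {E : Type u} [Field E] [Algebra k E] (F : Form k E) (φ : C → (F.A →ₐ[k] k))
    (hφmul : ∀ c c', cv (φ c) (φ c') = φ (c * c'))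
    (hbij : Function.Bijective ((AlgHom.pi φ : F.A →ₐ[k] (C → k)))) :
    ∃ j : F.sch ≅ C_, IsMonHom j.hom := by
  let P : F.A →ₐ[k] (C → k) := AlgHom.pi φ
  -- the isomorphism of schemes
  let d : TwC.const (Spec (CommRingCat.of k)) C ⟶ F.sch :=
    Over.homMk (Sigma.desc fun c => Spec.map (CommRingCat.ofHom (φ c).toRingHom)) (Sigma.hom_ext _ _ fun c => by
      rw [Sigma.ι_desc_assoc]
      show Spec.map _ ≫ Spec.map _ = Sigma.ι (fun _ : C => Spec (CommRingCat.of k)) c ≫ Sigma.desc fun _ => 𝟙 _
      rw [Sigma.ι_desc, ← Spec.map_comp]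
      exact (congrArg Spec.map (CommRingCat.hom_ext (RingHom.ext fun r => (φ c).commutes r))).trans
        (Spec.map_id _))
  haveI hPiso : IsIso (CommRingCat.ofHom P.toRingHom) :=
    (RingEquiv.ofBijective P hbij).toCommRingCatIso.isIso_hom
  haveI : IsIso d.left := by
    have h : d.left = sigmaSpec (fun _ : C => CommRingCat.of k) ≫ Spec.map (CommRingCat.ofHom P.toRingHom) := by
      refine Sigma.hom_ext _ _ fun c => ?_
      show Sigma.ι (fun _ : C => Spec (CommRingCat.of k)) c ≫ Sigma.desc _ = _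
      rw [Sigma.ι_desc]
      refine Eq.trans ?_ (ι_sigmaSpec_assoc (fun _ : C => CommRingCat.of k) c _).symm
      have key : CommRingCat.ofHom (φ c).toRingHom =
          CommRingCat.ofHom P.toRingHom ≫ CommRingCat.ofHom (Pi.evalRingHom (fun _ : C => k) c) := rfl
      exact (congrArg Spec.map key).trans (Spec.map_comp _ _)
    rw [h]
    haveI h1 : IsIso (Spec.map (CommRingCat.ofHom P.toRingHom)) := inferInstance
    haveI h2 : IsIso (sigmaSpec fun _ : C => CommRingCat.of k) := inferInstance
    exact @IsIso.comp_isIso _ _ _ _ _ _ _ h2 h1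
  haveI : IsIso ((Over.forget _).map d) := by assumption
  haveI : IsIso d := isIso_of_reflects_iso _ (Over.forget _)
  -- multiplicativity
  let e0 : CoactBr.sp k k ≅ 𝟙_ (Over (Spec (CommRingCat.of k))) :=
    Over.isoMk (Iso.refl _) (by
      show 𝟙 _ ≫ 𝟙 _ = Spec.map (CommRingCat.ofHom (algebraMap k k))
      rw [Category.comp_id, Algebra.algebraMap_self]
      exact (Spec.map_id _).symm)
  have hpt : ∀ c, TwC.pt (Spec (CommRingCat.of k)) C c ≫ d = e0.inv ≫ CoactBr.pt (φ c) := fun c => by
    ext1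
    show Sigma.ι (fun _ : C => Spec (CommRingCat.of k)) c ≫ Sigma.desc _ = 𝟙 _ ≫ Spec.map _
    rw [Sigma.ι_desc, Category.id_comp]
    rfl
  obtain ⟨ψ, hψ⟩ : ∃ ψ : C_ ⟶ F.sch, ψ = e.hom ≫ d := ⟨_, rfl⟩
  have hψpt : ∀ c, (TwC.pt (Spec (CommRingCat.of k)) C c ≫ e.inv) ≫ ψ = e0.inv ≫ CoactBr.pt (φ c) := fun c => by
    simp only [hψ, Category.assoc, Iso.inv_hom_id_assoc, hpt]
  have hmul : ∀ {T : Over (Spec (CommRingCat.of k))} (x y : T ⟶ C_), (x * y) ≫ ψ = (x ≫ ψ) * (y ≫ ψ) :=
    fun {T} x y => mul_comp_of_pt (T := T) e he ψ (x := x) (y := y) fun c c' => by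
    rw [hψpt, hψpt, hψpt, ← MonObj.comp_mul, CoactBr.pt_mul_pt]
    exact congrArg (fun w => e0.inv ≫ CoactBr.pt w) (hφmul c c').symm
  haveI : IsIso ψ := by rw [hψ]; infer_instance
  haveI : IsMonHom ψ := by
    refine ⟨?_, ?_⟩
    · have h1 := hmul (1 : 𝟙_ _ ⟶ C_) 1
      rw [_root_.mul_one] at h1
      have h2 := left_eq_mul.mp h1
      rw [Hom.one_def, Hom.one_def, toUnit_unique (toUnit (𝟙_ (Over (Spec (CommRingCat.of k))))) (𝟙 _),
        Category.id_comp, Category.id_comp] at h2
      exact h2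
    · have h1 := hmul (fst C_ C_) (snd C_ C_)
      rw [Hom.mul_def, Hom.mul_def, lift_fst_snd, Category.id_comp] at h1
      rw [h1]
      congr 1

  haveI : IsMonHom (asIso ψ).hom := ‹IsMonHom ψ›
  exact ⟨(asIso ψ).symm, inferInstanceAs (IsMonHom (asIso ψ).inv)⟩

theorem exists_form_const' {C : Type u} [CommGroup C] [Finite C] {C_ : Over (Spec (CommRingCat.of k))}
    [GrpObj C_] (e : C_ ≅ TwC.const (Spec (CommRingCat.of k)) C) (he : TwC.IsConstGrp C C_ e)
    (hC : IsUnit ((Nat.card C : ℕ) : k)) :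
    ∃ (E : Type u) (_ : Field E) (_ : Algebra k E) (F : Form k E) (j : F.sch ≅ C_),
      FiniteDimensional k E ∧ IsGalois k E ∧ IsMonHom j.hom ∧ Group.FG F.N ∧
      ∃ app : F.N →* (C →* Eˣ), Function.Injective app ∧
        ∀ (g : E ≃ₐ[k] E) (m : F.N) (c : C), (app (F.ρ g m) c : E) = g (app m c : E) := by
  classical
  obtain ⟨E, _, _, hfd, hgal, hroots⟩ := exists_galois_roots C hC
  haveI := hfd; haveI := hgal; haveI := hroots
  let N := C →* Eˣ
  let ρ : (E ≃ₐ[k] E) →* (N ≃* N) := MonoidHom.mk' (fun g =>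
    { toFun := fun l => (Units.map (g : E →* E)).comp l
      invFun := fun l => (Units.map ((g.symm : E ≃ₐ[k] E) : E →* E)).comp l
      left_inv := fun l => MonoidHom.ext fun c => Units.ext (g.symm_apply_apply _)
      right_inv := fun l => MonoidHom.ext fun c => Units.ext (g.apply_symm_apply _)
      map_mul' := fun a b => MonoidHom.comp_mul _ a b })
    fun a b => MulEquiv.ext fun l => rfl
  let F : Form k E := formOf (N := N) ρ
  haveI : Finite F.N := inferInstanceAs (Finite (C →* Eˣ))
  let app : F.N → C → E := fun l c => ((show C →* Eˣ from l) c : E)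
  have app_mul : ∀ a b c, app (a * b) c = app a c * app b c := fun a b c => rfl
  have app_mulC : ∀ a c c', app a (c * c') = app a c * app a c' := fun a c c' =>
    (congrArg Units.val (map_mul (show C →* Eˣ from a) c c')).trans (Units.val_mul _ _)
  -- the characters attached to the elements
  let χ : C → (F.N →* E ⊗[k] k) := fun c =>
    { toFun := fun l => app l c ⊗ₜ[k] (1 : k)
      map_one' := rfl
      map_mul' := fun a b => by
        show app (a * b) c ⊗ₜ[k] (1 : k) = _
        rw [app_mul, Algebra.TensorProduct.tmul_mul_tmul, _root_.mul_one] }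
  have hχ : ∀ c g l, galS g k (χ c l) = χ c (F.ρ g l) := fun c g l => by
    show galS g k (app l c ⊗ₜ[k] (1 : k)) = _
    rw [Algebra.TensorProduct.map_tmul, AlgHom.id_apply]
    rfl
  choose φ hφ using fun c => F.exists_V (χ c) (hχ c)
  have hφmul : ∀ c c', cv (φ c) (φ c') = φ (c * c') := fun c c' => F.V_injective (by
    rw [F.V_cv, hφ, hφ, hφ]
    refine MonoidHom.ext fun l => ?_
    show (app l c ⊗ₜ[k] (1 : k)) * (app l c' ⊗ₜ[k] (1 : k)) = app l (c * c') ⊗ₜ[k] (1 : k)
    rw [Algebra.TensorProduct.tmul_mul_tmul, _root_.mul_one, app_mulC])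
  -- evaluation at all elements is bijective
  let P : F.A →ₐ[k] (C → k) := AlgHom.pi φ
  have hev : ∀ c (x : MonoidAlgebra E F.N),
      Algebra.TensorProduct.rid k E E (bmap E (φ c) (F.e.symm x)) =
        MonoidAlgebra.lift E E F.N
          ({ toFun := fun l => app l c, map_one' := rfl,
             map_mul' := fun a b => rfl } : F.N →* E) x := by
    intro c x
    induction x using MonoidAlgebra.induction_on with
    | of l =>
      show Algebra.TensorProduct.rid k E E (F.V (φ c) l) = _
      rw [hφ, MonoidAlgebra.lift_of]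
      show Algebra.TensorProduct.rid k E E (app l c ⊗ₜ[k] (1 : k)) = _
      simp
    | add p q hp hq => simp only [map_add, hp, hq]
    | smul r p hp => simp only [map_smul, hp]
  have hinj : Function.Injective P := by
    refine (injective_iff_map_eq_zero P).2 fun a ha => ?_
    have h0 : ∀ c, MonoidAlgebra.lift E E F.N
          ({ toFun := fun l => app l c, map_one' := rfl,
             map_mul' := fun a b => rfl } : F.N →* E) (F.e ((1 : E) ⊗ₜ[k] a)) = 0 := fun c => by
      rw [← hev, BialgEquiv.symm_apply_apply, Algebra.TensorProduct.map_tmul,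
        show φ c a = 0 from congrFun ha c]
      simp
    let f : F.N → (C →* E) := fun l => (Units.coeHom E).comp (show C →* Eˣ from l)
    have hf : Function.Injective f := fun l l' h => (MonoidHom.ext fun c =>
      Units.ext (DFunLike.congr_fun h c) : (show C →* Eˣ from l) = (show C →* Eˣ from l'))
    have hli := (linearIndependent_monoidHom C E).comp f hf
    haveI := Fintype.ofFinite F.N
    have hx : F.e ((1 : E) ⊗ₜ[k] a) = 0 := by
      have h1 := Fintype.linearIndependent_iff.1 hli (fun l => (F.e ((1 : E) ⊗ₜ[k] a)).coeff l)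
        (funext fun c => by
          have := h0 c
          rw [MonoidAlgebra.lift_apply, Finsupp.sum_fintype _ _ (by simp)] at this
          simpa [f] using this)
      exact MonoidAlgebra.ext (Finsupp.ext fun l => by simpa using h1 l)
    exact Groth.GaloisBrauer.one_tmul_injective (k := k) (K := E)
      ((map_eq_zero_iff _ (F.e : E ⊗[k] F.A ≃ₐ[E] MonoidAlgebra E F.N).injective).1 hx |>.trans
        (TensorProduct.tmul_zero _ _).symm)
  have hdim : Module.finrank k F.A = Module.finrank k (C → k) := by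
    haveI := Fintype.ofFinite F.N
    haveI := Fintype.ofFinite C
    rw [← Module.finrank_baseChange (R := E), (F.e : E ⊗[k] F.A ≃ₐ[E] MonoidAlgebra E F.N).toLinearEquiv.finrank_eq,
      Module.finrank_pi, (MonoidAlgebra.coeffLinearEquiv E).finrank_eq, Module.finrank_finsupp_self,
      ← Nat.card_eq_fintype_card, ← Nat.card_eq_fintype_card]
    exact CommGroup.card_monoidHom_of_hasEnoughRootsOfUnity C E
  haveI : Module.Finite k (C → k) := inferInstance
  haveI : Module.Finite k F.A := Module.Finite.of_injective P.toLinearMap hinj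
  have hbij : Function.Bijective P :=
    ⟨hinj, (LinearMap.injective_iff_surjective_of_finrank_eq_finrank hdim (f := P.toLinearMap)).1 hinj⟩
  obtain ⟨j, hj⟩ := exists_iso_const e he F φ hφmul hbij
  exact ⟨E, inferInstance, inferInstance, F, j, hfd, hgal, hj, inferInstance, MonoidHom.id _,
    Function.injective_id, fun g m c => rfl⟩

theorem exists_form_const {C : Type u} [CommGroup C] [Finite C] {C_ : Over (Spec (CommRingCat.of k))}
    [GrpObj C_] (e : C_ ≅ TwC.const (Spec (CommRingCat.of k)) C) (he : TwC.IsConstGrp C C_ e)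
    (hC : IsUnit ((Nat.card C : ℕ) : k)) :
    ∃ (E : Type u) (_ : Field E) (_ : Algebra k E) (F : Form k E) (j : F.sch ≅ C_),
      FiniteDimensional k E ∧ IsGalois k E ∧ IsMonHom j.hom ∧ Group.FG F.N := by
  obtain ⟨E, h1, h2, F, j, h3, h4, h5, h6, -⟩ := exists_form_const' e he hC
  exact ⟨E, h1, h2, F, j, h3, h4, h5, h6⟩

end Groth.Misc15.MultH1
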