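import Groth.Prelude.Def_ActBC
import Groth.Agent.TorsProper.EtaleGroup

/-!
For an étale separated group the étale and fppf torsors agree.
-/

set_option autoImplicit false
set_option linter.style.haveILetI false

universe u

open CategoryTheory CategoryTheory.Limits MonoidalCategory CartesianMonoidalCategory AlgebraicGeometry

noncomputable section

namespace Groth.Misc15.MultH1

variable {S : Scheme.{u}} {G : Over S} [GrpObj G]

theorem etalePrecoverage_le_fppf : Scheme.etalePrecoverage.{u} ≤ Scheme.fppfPrecoverage.{u} :=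
  Scheme.precoverage_mono fun _ _ f hf => by
    haveI : Etale f := hf
    exact ⟨inferInstance, inferInstance⟩

/-- an étale torsor is an fppf torsor -/
def toFppf : NonAbH1.H1Sch G Scheme.etalePrecoverage → NonAbH1.H1Sch G Scheme.fppfPrecoverage :=
  Quot.map (fun P => ⟨P.X, P.act, P.isTorsor.1,
    let ⟨R, hR, hsec⟩ := P.isTorsor.2
    ⟨R, etalePrecoverage_le_fppf _ hR, hsec⟩⟩) fun _ _ h => h

theorem isTorsorFor_etale [Etale G.hom] [IsSeparated G.hom]
    {X : Over S} {a : AlgGrp.Action G X} (ha : NonAbH1.IsTorsorFor Scheme.fppfPrecoverage a) :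
    NonAbH1.IsTorsorFor Scheme.etalePrecoverage a := by
  haveI := (Groth.TorsProper.torsor_etale a ha).1
  haveI : Surjective X.hom := ⟨fun s => by
    obtain ⟨R, hR, hsec⟩ := ha.2
    obtain ⟨Y, g, hg, y, rfl⟩ := hR.1 s
    obtain @⟨S', f, hf⟩ := hg
    obtain ⟨t, ht⟩ := hsec f hf
    exact ⟨t y, by rw [← Scheme.Hom.comp_apply, ht]; rfl⟩⟩
  refine ⟨ha.1, Presieve.singleton X.hom, ?_, ?_⟩
  · rw [← Presieve.ofArrows_pUnit.{0}]
    exact (X.hom.cover (P := @Etale) inferInstance).mem₀
  · rintro S' f ⟨⟩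
    exact ⟨𝟙 _, Category.id_comp _⟩

/-- an fppf torsor under an étale separated group is an étale torsor -/
def ofFppf [Etale G.hom] [IsSeparated G.hom] :
    NonAbH1.H1Sch G Scheme.fppfPrecoverage → NonAbH1.H1Sch G Scheme.etalePrecoverage :=
  Quot.map (fun P => ⟨P.X, P.act, isTorsorFor_etale P.isTorsor⟩) fun _ _ h => h

theorem toFppf_ofFppf [Etale G.hom] [IsSeparated G.hom] (c : NonAbH1.H1Sch G Scheme.fppfPrecoverage) :
    toFppf (ofFppf c) = c := by
  induction c using Quot.ind
  rfl

theorem ofFppf_toFppf [Etale G.hom] [IsSeparated G.hom] (c : NonAbH1.H1Sch G Scheme.etalePrecoverage) :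
    ofFppf (toFppf c) = c := by
  induction c using Quot.ind
  rfl

theorem toFppf_bcMap {S' : Scheme.{u}} (f : S' ⟶ S) (c : NonAbH1.H1Sch G Scheme.etalePrecoverage) :
    toFppf (NonAbH1.H1Sch.bcMap f G Scheme.etalePrecoverage c) =
      NonAbH1.H1Sch.bcMap f G Scheme.fppfPrecoverage (toFppf c) := by
  induction c using Quot.ind
  rfl

/-- Surjectivity of restriction does not depend on the topology. -/
theorem surjective_iff_fppf [Etale G.hom] [IsSeparated G.hom] {S' : Scheme.{u}} (f : S' ⟶ S)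
    [Etale (Red.bc f G).hom] [IsSeparated (Red.bc f G).hom] :
    Function.Surjective (NonAbH1.H1Sch.bcMap f G Scheme.etalePrecoverage) ↔
      Function.Surjective (NonAbH1.H1Sch.bcMap f G Scheme.fppfPrecoverage) := by
  constructor
  · intro h c
    obtain ⟨x, hx⟩ := h (ofFppf c)
    exact ⟨toFppf x, by rw [← toFppf_bcMap, hx, toFppf_ofFppf]⟩
  · intro h c
    obtain ⟨x, hx⟩ := h (toFppf c)
    exact ⟨ofFppf x, by rw [← ofFppf_toFppf c, ← hx, ← toFppf_ofFppf x, ← toFppf_bcMap, ofFppf_toFppf,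
      ofFppf_toFppf]⟩

end Groth.Misc15.MultH1
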