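import Groth.Agent.Pi1Tors.Points
import Groth.Agent.AlgGrp2.AffinePts
import Groth.Prelude.Def_ActBC

/-!
Torsors of an exact sequence of group schemes attached to points of the quotient, and their recognition
by equivariant maps.
-/

set_option autoImplicit false
set_option linter.style.haveILetI false
set_option backward.isDefEq.respectTransparency false

universe u

open CategoryTheory CategoryTheory.Limits MonoidalCategory CartesianMonoidalCategory MonObj GrpObj AlgebraicGeometry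
open Groth.Pi1Tors Groth.AlgGrp2

noncomputable section

namespace Groth.Misc15.MultH1

variable {S : Scheme.{u}}

section General

variable {G X X' U : Over S} [GrpObj G] {a : AlgGrp.Action G X} {a' : AlgGrp.Action G X'}

theorem exists_map_of_sections (ha : NonAbH1.IsPseudoTorsorSch a) (hU : LocSurj (toUnit U))
    (s : U ⟶ X) (s' : U ⟶ X')
    (hyp : ∀ (T : Over S) (x y : T ⟶ U) (g : T ⟶ G), dot a g (x ≫ s) = y ≫ s → dot a' g (x ≫ s') = y ≫ s') :
    ∃ φ : X ⟶ X', ∀ (T : Over S) (p : T ⟶ X) (x : T ⟶ U) (g : T ⟶ G),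
      dot a g (x ≫ s) = p → p ≫ φ = dot a' g (x ≫ s') := by
  obtain ⟨d, hd⟩ := exists_dot_eq a ha (fst X U) (snd X U ≫ s)
  obtain ⟨φ, hφ⟩ := (LocSurj.fst hU X).desc (dot a' d (snd X U ≫ s')) fun T p q hpq => by
    obtain ⟨g₁, hg₁⟩ := exists_dot_eq a ha (q ≫ snd X U ≫ s) (p ≫ snd X U ≫ s)
    have hg₁' := hyp T (p ≫ snd X U) (q ≫ snd X U) g₁ (by simpa only [Category.assoc] using hg₁)
    have h2 : dot a (p ≫ d) (p ≫ snd X U ≫ s) = dot a ((q ≫ d) * g₁) (p ≫ snd X U ≫ s) := by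
      rw [mul_dot, hg₁, ← comp_dot, hd, ← comp_dot, hd, hpq]
    rw [comp_dot, comp_dot, dot_cancel a ha h2, mul_dot]
    simp only [Category.assoc] at hg₁'
    rw [hg₁']
  refine ⟨φ, fun T p x g hg => ?_⟩
  have h1 : lift p x ≫ fst X U ≫ φ = lift p x ≫ dot a' d (snd X U ≫ s') := by rw [hφ]
  rw [lift_fst_assoc, comp_dot, lift_snd_assoc] at h1
  have h2 : lift p x ≫ d = g := by
    refine dot_cancel a ha (x := x ≫ s) ?_
    have h3 := congrArg (lift p x ≫ ·) hd
    simp only [comp_dot, lift_snd_assoc, lift_fst] at h3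
    rw [h3, hg]
  rw [h1, h2]

/-- Two pseudo-torsors with sections having the same difference are isomorphic. -/
theorem equivIso_of_sections (ha : NonAbH1.IsPseudoTorsorSch a) (ha' : NonAbH1.IsPseudoTorsorSch a')
    (hU : LocSurj (toUnit U)) (s : U ⟶ X) (s' : U ⟶ X')
    (hyp : ∀ (T : Over S) (x y : T ⟶ U) (g : T ⟶ G), dot a g (x ≫ s) = y ≫ s → dot a' g (x ≫ s') = y ≫ s') :
    Nonempty (NonAbH1.EquivIso a a') := by
  obtain ⟨φ, hφ⟩ := exists_map_of_sections ha hU s s' hyp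
  obtain ⟨ψ, hψ⟩ := exists_map_of_sections ha' hU s' s fun T x y g hg => by
    obtain ⟨g₁, hg₁⟩ := exists_dot_eq a ha (y ≫ s) (x ≫ s)
    rw [dot_cancel a' ha' ((hyp T x y g₁ hg₁).trans hg.symm)] at hg₁
    exact hg₁
  have h1 : φ ≫ ψ = 𝟙 X := (LocSurj.fst hU X).cancel (by
    obtain ⟨d, hd⟩ := exists_dot_eq a ha (fst X U) (snd X U ≫ s)
    have e1 := hφ _ (fst X U) (snd X U) d hd
    have e2 := hψ _ (fst X U ≫ φ) (snd X U) d e1.symm
    rw [Category.comp_id, ← Category.assoc, e2, hd])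
  have h2 : ψ ≫ φ = 𝟙 X' := (LocSurj.fst hU X').cancel (by
    obtain ⟨d, hd⟩ := exists_dot_eq a' ha' (fst X' U) (snd X' U ≫ s')
    have e1 := hψ _ (fst X' U) (snd X' U) d hd
    have e2 := hφ _ (fst X' U ≫ ψ) (snd X' U) d e1.symm
    rw [Category.comp_id, ← Category.assoc, e2, hd])
  refine ⟨⟨⟨φ, ψ, h1, h2⟩, (LocSurj.fst hU (G ⊗ X)).cancel ?_⟩⟩
  show fst (G ⊗ X) U ≫ a.act ≫ φ = fst (G ⊗ X) U ≫ G ◁ φ ≫ a'.act
  let p := fst (G ⊗ X) U
  obtain ⟨d, hd⟩ := exists_dot_eq a ha (p ≫ snd G X) (snd (G ⊗ X) U ≫ s)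
  have e1 := hφ _ (p ≫ snd G X) _ d hd
  have e2 := hφ _ (p ≫ a.act) (snd (G ⊗ X) U) ((p ≫ fst G X) * d) (by
    rw [mul_dot, hd, act_eq_dot a, comp_dot])
  rw [← Category.assoc, e2, mul_dot, ← e1, ← Category.assoc p]
  rw [show p ≫ G ◁ φ = lift (p ≫ fst G X) ((p ≫ snd G X) ≫ φ) from
    CartesianMonoidalCategory.hom_ext _ _ (by simp) (by simp)]
  rfl

end General

variable {S₀ : Scheme.{u}}

/-- An exact sequence of group schemes, on points. -/
structure Seq (M R T : Over S₀) [GrpObj M] [GrpObj R] [GrpObj T] where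
  /-- the inclusion -/
  i : M ⟶ R
  /-- the quotient map -/
  π : R ⟶ T
  [hi : IsMonHom i]
  [hπ : IsMonHom π]
  commR : ∀ {Z : Over S₀} (x y : Z ⟶ R), x * y = y * x
  inj : ∀ {Z : Over S₀} (g g' : Z ⟶ M), g ≫ i = g' ≫ i → g = g'
  comp : ∀ {Z : Over S₀} (g : Z ⟶ M), g ≫ i ≫ π = 1
  exact : ∀ {Z : Over S₀} (x : Z ⟶ R), x ≫ π = 1 → ∃ g, g ≫ i = x
  flat : Flat π.left
  surj : Surjective π.left
  lfp : LocallyOfFinitePresentation π.left

attribute [instance] Seq.hi Seq.hπ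

/-- A group over `S` whose points are points of `M` over `S₀`. -/
structure Tr (M : Over S₀) [GrpObj M] (G : Over S) [GrpObj G] where
  /-- the structure map -/
  h : S ⟶ S₀
  /-- the identification of points -/
  e : ∀ Z : Over S, (Z ⟶ G) ≃* ((Over.map h).obj Z ⟶ M)
  nat : ∀ {Z W : Over S} (f : W ⟶ Z) (x : Z ⟶ G), e W (f ≫ x) = (Over.map h).map f ≫ e Z x

variable {M R T : Over S₀} [GrpObj M] [GrpObj R] [GrpObj T]

/-- the translation for a base change -/
def Tr.ofBC (M : Over S₀) [GrpObj M] (g : S ⟶ S₀) : Tr M (Red.bc g M) where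
  h := g
  e Z := { toFun := bcPt g, invFun := bcPtInv g, left_inv := bcPtInv_bcPt g, right_inv := bcPt_bcPtInv g,
           map_mul' := bcPt_mul g }
  nat f x := bcPt_comp g f x

variable {G : Over S} [GrpObj G]

/-- the comparison of two pushforwards -/
def reassoc {S' : Scheme.{u}} (f : S' ⟶ S) (h : S ⟶ S₀) (Z : Over S') :
    (Over.map (f ≫ h)).obj Z ≅ (Over.map h).obj ((Over.map f).obj Z) :=
  Over.isoMk (Iso.refl _) (by
    show 𝟙 _ ≫ (Z.hom ≫ f) ≫ h = Z.hom ≫ f ≫ h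
    rw [Category.id_comp, Category.assoc])

theorem reassoc_natural {S' : Scheme.{u}} (f : S' ⟶ S) (h : S ⟶ S₀) {Z W : Over S'} (g : W ⟶ Z) :
    (Over.map (f ≫ h)).map g ≫ (reassoc f h Z).hom =
      (reassoc f h W).hom ≫ (Over.map h).map ((Over.map f).map g) := by
  ext1
  show g.left ≫ 𝟙 _ = 𝟙 _ ≫ g.left
  rw [Category.comp_id, Category.id_comp]

/-- the translation for an iterated base change -/
def Tr.bc (τ : Tr M G) {S' : Scheme.{u}} (f : S' ⟶ S) : Tr M (Red.bc f G) where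
  h := f ≫ τ.h
  e Z :=
    { toFun := fun x => (reassoc f τ.h Z).hom ≫ τ.e _ (bcPt f x)
      invFun := fun y => bcPtInv f ((τ.e _).symm ((reassoc f τ.h Z).inv ≫ y))
      left_inv := fun x => by simp
      right_inv := fun y => by simp
      map_mul' := fun x y => by rw [bcPt_mul, map_mul, MonObj.comp_mul] }
  nat {Z W} g x := by
    show (reassoc f τ.h W).hom ≫ τ.e _ (bcPt f (g ≫ x)) = _ ≫ (reassoc f τ.h Z).hom ≫ τ.e _ (bcPt f x)
    rw [bcPt_comp, τ.nat, ← Category.assoc, ← reassoc_natural, Category.assoc]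

variable (Q : Seq M R T) (τ : Tr M G)

/-- the projection to the base -/
def cst (Z : Over S) : (Over.map τ.h).obj Z ⟶ Over.mk τ.h := Over.homMk Z.hom rfl

theorem map_cst {Z W : Over S} (f : W ⟶ Z) : (Over.map τ.h).map f ≫ cst τ Z = cst τ W := by
  ext1
  exact Over.w f

theorem isIso_cst_unit : IsIso (cst τ (𝟙_ (Over S))) := by
  haveI : IsIso (cst τ (𝟙_ (Over S))).left := inferInstanceAs (IsIso (𝟙 S))
  haveI : IsIso ((Over.forget S₀).map (cst τ (𝟙_ (Over S)))) := by assumption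
  exact isIso_of_reflects_iso _ (Over.forget S₀)

variable {X : Over S}

/-- An equivariant map of a torsor into the middle group, over a point of the quotient. -/
structure Emb (a : AlgGrp.Action G X) (t : Over.mk τ.h ⟶ T) where
  /-- the map -/
  j : (Over.map τ.h).obj X ⟶ R
  equiv : ∀ (Z : Over S) (g : Z ⟶ G) (x : Z ⟶ X),
    (Over.map τ.h).map (dot a g x) ≫ j = (τ.e Z g ≫ Q.i) * ((Over.map τ.h).map x ≫ j)
  ov : j ≫ Q.π = cst τ X ≫ t

variable (t : Over.mk τ.h ⟶ T)

/-- the fibre of the quotient map over a point -/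
def fib : Over S := Over.mk (pullback.fst t.left Q.π.left)

/-- its map to the middle group -/
def fibMap : (Over.map τ.h).obj (fib Q τ t) ⟶ R :=
  Over.homMk (pullback.snd t.left Q.π.left) (by
    show pullback.snd t.left Q.π.left ≫ R.hom = pullback.fst t.left Q.π.left ≫ τ.h
    rw [← Over.w Q.π, ← Category.assoc, ← pullback.condition, Category.assoc]
    exact congrArg (pullback.fst t.left Q.π.left ≫ ·) (Over.w t))

theorem fibMap_π : fibMap Q τ t ≫ Q.π = cst τ _ ≫ t := by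
  ext1
  exact pullback.condition.symm

/-- points of the fibre -/
def fibPt {Z : Over S} (y : (Over.map τ.h).obj Z ⟶ R) (hy : y ≫ Q.π = cst τ Z ≫ t) : Z ⟶ fib Q τ t :=
  Over.homMk (pullback.lift Z.hom y.left (congrArg CommaMorphism.left hy).symm) (pullback.lift_fst _ _ _)

theorem fibPt_map {Z : Over S} (y : (Over.map τ.h).obj Z ⟶ R) (hy : y ≫ Q.π = cst τ Z ≫ t) :
    (Over.map τ.h).map (fibPt Q τ t y hy) ≫ fibMap Q τ t = y := by
  ext1
  exact pullback.lift_snd _ _ _

theorem fib_ext {Z : Over S} {x x' : Z ⟶ fib Q τ t}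
    (h : (Over.map τ.h).map x ≫ fibMap Q τ t = (Over.map τ.h).map x' ≫ fibMap Q τ t) : x = x' := by
  ext1
  exact pullback.hom_ext ((Over.w x).trans (Over.w x').symm) (congrArg CommaMorphism.left h)

theorem fibAct_aux {Z : Over S} (g : Z ⟶ G) (x : Z ⟶ fib Q τ t) :
    ((τ.e Z g ≫ Q.i) * ((Over.map τ.h).map x ≫ fibMap Q τ t)) ≫ Q.π = cst τ Z ≫ t := by
  rw [MonObj.mul_comp, Category.assoc, Category.assoc, Q.comp, _root_.one_mul, fibMap_π, ← Category.assoc,
    map_cst]

/-- the action morphism of the fibre -/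
def fibActHom : G ⊗ fib Q τ t ⟶ fib Q τ t :=
  fibPt Q τ t _ (fibAct_aux Q τ t (fst G _) (snd G _))

theorem lift_fibActHom {Z : Over S} (g : Z ⟶ G) (x : Z ⟶ fib Q τ t) :
    (Over.map τ.h).map (lift g x ≫ fibActHom Q τ t) ≫ fibMap Q τ t =
      (τ.e Z g ≫ Q.i) * ((Over.map τ.h).map x ≫ fibMap Q τ t) := by
  rw [Functor.map_comp, Category.assoc, fibActHom, fibPt_map, MonObj.comp_mul, ← Category.assoc,
    ← τ.nat, lift_fst, ← Category.assoc, ← Functor.map_comp, lift_snd]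

/-- the action of the group on the fibre -/
def fibAct : AlgGrp.Action G (fib Q τ t) where
  act := fibActHom Q τ t
  one_act := by
    apply fib_ext Q τ t
    have h1 : η[G] ▷ fib Q τ t = lift (1 : 𝟙_ _ ⊗ fib Q τ t ⟶ G) (snd _ _) := by
      apply CartesianMonoidalCategory.hom_ext
      · rw [lift_fst, whiskerRight_fst, Hom.one_def, toUnit_unique (fst _ _) (toUnit _)]
      · rw [lift_snd, whiskerRight_snd]
    rw [h1, lift_fibActHom, map_one, MonObj.one_comp, _root_.one_mul, leftUnitor_hom]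
  mul_act := by
    apply fib_ext Q τ t
    let g₁ : (G ⊗ G) ⊗ fib Q τ t ⟶ G := fst _ _ ≫ fst G G
    let g₂ : (G ⊗ G) ⊗ fib Q τ t ⟶ G := fst _ _ ≫ snd G G
    let x : (G ⊗ G) ⊗ fib Q τ t ⟶ fib Q τ t := snd _ _
    have h1 : μ[G] ▷ fib Q τ t = lift (g₁ * g₂) x := by
      apply CartesianMonoidalCategory.hom_ext
      · rw [lift_fst, whiskerRight_fst, ← MonObj.comp_mul, Hom.mul_def, lift_fst_snd, Category.id_comp]
      · rw [lift_snd, whiskerRight_snd]
    have h2 : (α_ G G (fib Q τ t)).hom ≫ G ◁ fibActHom Q τ t = lift g₁ (lift g₂ x ≫ fibActHom Q τ t) := by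
      apply CartesianMonoidalCategory.hom_ext
      · simp [g₁]
      · rw [Category.assoc, whiskerLeft_snd, lift_snd, ← Category.assoc]
        congr 1
        apply CartesianMonoidalCategory.hom_ext <;> simp [g₂, x]
    rw [h1, ← Category.assoc (α_ _ _ _).hom, h2, lift_fibActHom, lift_fibActHom, lift_fibActHom, map_mul,
      MonObj.mul_comp, _root_.mul_assoc]

/-- the fibre embeds -/
def fibEmb : Emb Q τ (fibAct Q τ t) t :=
  ⟨fibMap Q τ t, fun _ g x => lift_fibActHom Q τ t g x, fibMap_π Q τ t⟩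

theorem isPseudoTorsorSch_fibAct : NonAbH1.IsPseudoTorsorSch (fibAct Q τ t) := by
  refine isPseudoTorsor_of_points _ (fun Z x y => ?_) fun Z g g' x h => ?_
  · obtain ⟨g, hg⟩ := Q.exact (((Over.map τ.h).map x ≫ fibMap Q τ t) *
      ((Over.map τ.h).map y ≫ fibMap Q τ t)⁻¹) (by
      rw [MonObj.mul_comp, GrpObj.inv_comp, Category.assoc, Category.assoc, fibMap_π, ← Category.assoc,
        ← Category.assoc, map_cst, map_cst, mul_inv_cancel])
    refine ⟨(τ.e Z).symm g, fib_ext Q τ t ?_⟩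
    show (Over.map τ.h).map (lift _ y ≫ fibActHom Q τ t) ≫ _ = _
    rw [lift_fibActHom, MulEquiv.apply_symm_apply, hg, inv_mul_cancel_right]
  · refine (τ.e Z).injective (Q.inj _ _ ?_)
    have h1 := congrArg (fun w => (Over.map τ.h).map w ≫ fibMap Q τ t) h
    simp only [dot] at h1
    rw [show (fibAct Q τ t).act = fibActHom Q τ t from rfl, lift_fibActHom, lift_fibActHom] at h1
    exact mul_right_cancel h1

theorem isLocallyTrivialFor_fib : NonAbH1.IsLocallyTrivialFor Scheme.fppfPrecoverage (fib Q τ t) := by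
  haveI := Q.flat; haveI := Q.surj; haveI := Q.lfp
  let p : (fib Q τ t).left ⟶ S := pullback.fst t.left Q.π.left
  haveI : Flat p := inferInstanceAs (Flat (pullback.fst t.left Q.π.left))
  haveI : Surjective p := inferInstanceAs (Surjective (pullback.fst t.left Q.π.left))
  haveI : LocallyOfFinitePresentation p :=
    inferInstanceAs (LocallyOfFinitePresentation (pullback.fst t.left Q.π.left))
  refine ⟨Presieve.singleton p, Scheme.Hom.singleton_mem_fppfPrecoverage p, ?_⟩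
  rintro S' f ⟨⟩
  exact ⟨𝟙 _, Category.id_comp _⟩

/-- the torsor of a point of the quotient -/
def fibTorsor : NonAbH1.TorsorSch G Scheme.fppfPrecoverage :=
  ⟨fib Q τ t, fibAct Q τ t, isPseudoTorsorSch_fibAct Q τ t, isLocallyTrivialFor_fib Q τ t⟩

omit [GrpObj G] in
theorem locSurj_of_fppf {Y : Over S} (h : NonAbH1.IsLocallyTrivialFor Scheme.fppfPrecoverage Y) :
    LocSurj (toUnit Y) :=
  let ⟨P, hP, hsec⟩ := h
  locSurj_toUnit ⟨P, Scheme.fppfPrecoverage_le_fpqcPrecoverage _ hP, hsec⟩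

variable {Q τ t}

/-- An embedded torsor is the torsor of its point. -/
theorem Emb.cl_eq {P : NonAbH1.TorsorSch G Scheme.fppfPrecoverage} (E : Emb Q τ P.act t) :
    P.cl = (fibTorsor Q τ t).cl := by
  refine Quot.sound (equivIso_of_sections (U := P.X) P.isTorsor.1 (isPseudoTorsorSch_fibAct Q τ t)
    (locSurj_of_fppf P.isTorsor.2) (𝟙 _) (fibPt Q τ t E.j E.ov) fun Z x y g hg => fib_ext Q τ t ?_)
  show (Over.map τ.h).map (lift g _ ≫ fibActHom Q τ t) ≫ _ = _
  rw [lift_fibActHom, Functor.map_comp, Category.assoc, fibPt_map, Functor.map_comp, Category.assoc,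
    fibPt_map, ← E.equiv]
  simp only [Category.comp_id] at hg
  rw [hg]

/-- A morphism on the pushforward of a cover which is constant descends. -/
theorem exists_desc_const {U : Over S} (hU : LocSurj (toUnit U)) {Y : Over S₀}
    (f : (Over.map τ.h).obj U ⟶ Y)
    (hf : ∀ (Z : Over S) (x y : Z ⟶ U), (Over.map τ.h).map x ≫ f = (Over.map τ.h).map y ≫ f) :
    ∃ c : Over.mk τ.h ⟶ Y, cst τ U ≫ c = f := by
  obtain ⟨c₀, hc₀⟩ := hU.desc (bcPtInv τ.h f) fun Z x y _ => by
    apply bcPt_injective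
    rw [bcPt_comp, bcPt_comp, bcPt_bcPtInv, hf]
  haveI := isIso_cst_unit τ
  refine ⟨inv (cst τ (𝟙_ (Over S))) ≫ bcPt τ.h c₀, ?_⟩
  rw [← bcPt_bcPtInv τ.h f, ← hc₀, bcPt_comp, ← map_cst τ (toUnit U), Category.assoc, IsIso.hom_inv_id_assoc]

theorem cancel_cst {U : Over S} (hU : LocSurj (toUnit U)) {Y : Over S₀} {c c' : Over.mk τ.h ⟶ Y}
    (h : cst τ U ≫ c = cst τ U ≫ c') : c = c' := by
  let p : (Over.map τ.h).obj (𝟙_ (Over S)) ⟶ Over.mk τ.h := cst τ _
  haveI : IsIso p := isIso_cst_unit τ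
  rw [← cancel_epi p]
  suffices bcPtInv τ.h (p ≫ c) = bcPtInv τ.h (p ≫ c') by simpa using congrArg (bcPt τ.h) this
  refine hU.cancel (bcPt_injective τ.h ?_)
  rw [bcPt_comp, bcPt_comp, bcPt_bcPtInv, bcPt_bcPtInv, ← Category.assoc, ← Category.assoc, map_cst, h]

/-- Two points of the quotient with isomorphic torsors differ by a point of the middle group. -/
theorem Emb.exists_ratio {a : AlgGrp.Action G X} {t t' : Over.mk τ.h ⟶ T} (E : Emb Q τ a t) (E' : Emb Q τ a t')
    (ha : NonAbH1.IsTorsorFor Scheme.fppfPrecoverage a) :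
    ∃ ρ : Over.mk τ.h ⟶ R, t' = (ρ ≫ Q.π) * t := by
  have hU := locSurj_of_fppf ha.2
  obtain ⟨ρ, hρ⟩ := exists_desc_const (τ := τ) hU (E'.j * E.j⁻¹) fun Z x y => by
    obtain ⟨g, rfl⟩ := exists_dot_eq a ha.1 y x
    rw [MonObj.comp_mul, MonObj.comp_mul, GrpObj.comp_inv, GrpObj.comp_inv, E.equiv, E'.equiv,
      _root_.mul_inv_rev, Q.commR (τ.e Z g ≫ Q.i) ((Over.map τ.h).map x ≫ E'.j), _root_.mul_assoc,
      Q.commR ((Over.map τ.h).map x ≫ E.j)⁻¹, mul_inv_cancel_left]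
  refine ⟨ρ, cancel_cst (τ := τ) hU ?_⟩
  rw [MonObj.comp_mul, ← Category.assoc, hρ, MonObj.mul_comp, GrpObj.inv_comp, ← E.ov, ← E'.ov,
    inv_mul_cancel_right]

/-- Transport along an isomorphism. -/
def Emb.ofIso {X' : Over S} {a : AlgGrp.Action G X} {a' : AlgGrp.Action G X'} (E : Emb Q τ a t)
    (e : NonAbH1.EquivIso a' a) : Emb Q τ a' t where
  j := (Over.map τ.h).map e.iso.hom ≫ E.j
  equiv Z g x := by
    rw [← Category.assoc, ← Functor.map_comp, dot, Category.assoc, e.comm, ← Category.assoc,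
      lift_whiskerLeft]
    rw [show lift g (x ≫ e.iso.hom) ≫ a.act = dot a g (x ≫ e.iso.hom) from rfl, E.equiv, Functor.map_comp,
      Category.assoc]
  ov := by rw [Category.assoc, E.ov, ← Category.assoc, map_cst]

theorem exists_ratio_of_cl_eq {t t' : Over.mk τ.h ⟶ T} (h : (fibTorsor Q τ t).cl = (fibTorsor Q τ t').cl) :
    ∃ ρ : Over.mk τ.h ⟶ R, t' = (ρ ≫ Q.π) * t := by
  have h1 := Quot.eqvGen_exact h
  have hE : ∀ {P P' : NonAbH1.TorsorSch G Scheme.fppfPrecoverage},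
      Relation.EqvGen (fun P Q : NonAbH1.TorsorSch G Scheme.fppfPrecoverage =>
        Nonempty (NonAbH1.EquivIso P.act Q.act)) P P' →
      Nonempty (NonAbH1.EquivIso P.act P'.act) := by
    intro P P' hh
    induction hh with
    | rel _ _ h => exact h
    | refl P => exact ⟨⟨Iso.refl _, by simp⟩⟩
    | symm _ _ _ ih =>
      obtain ⟨e⟩ := ih
      exact ⟨⟨e.iso.symm, by
        rw [← cancel_mono e.iso.hom, Category.assoc, Iso.symm_hom, Iso.inv_hom_id, Category.comp_id,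
          Category.assoc, e.comm, ← Category.assoc, ← MonoidalCategory.whiskerLeft_comp, Iso.inv_hom_id,
          MonoidalCategory.whiskerLeft_id, Category.id_comp]⟩⟩
    | trans _ _ _ _ _ ih ih' =>
      obtain ⟨e⟩ := ih
      obtain ⟨e'⟩ := ih'
      exact ⟨⟨e.iso ≪≫ e'.iso, by
        rw [Iso.trans_hom, MonoidalCategory.whiskerLeft_comp, Category.assoc, ← e'.comm,
          ← Category.assoc, e.comm, Category.assoc]⟩⟩
  obtain ⟨e⟩ := hE h1
  exact Emb.exists_ratio (fibEmb Q τ t) ((fibEmb Q τ t').ofIso e)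
    ⟨isPseudoTorsorSch_fibAct Q τ t, isLocallyTrivialFor_fib Q τ t⟩

/-- Base change of an embedded torsor. -/
def Emb.bc {a : AlgGrp.Action G X} (E : Emb Q τ a t) {S' : Scheme.{u}} (f : S' ⟶ S) :
    Emb Q (τ.bc f) (a.bc f) (Over.homMk (U := Over.mk (f ≫ τ.h)) (V := Over.mk τ.h) f rfl ≫ t) where
  j := (reassoc f τ.h _).hom ≫ (Over.map τ.h).map (bcPt f (𝟙 (Red.bc f X))) ≫ E.j
  equiv Z g x := by
    have hpt : ∀ y : Z ⟶ Red.bc f X,
        (Over.map (f ≫ τ.h)).map y ≫ (reassoc f τ.h _).hom ≫ (Over.map τ.h).map (bcPt f (𝟙 (Red.bc f X))) ≫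
          E.j = (reassoc f τ.h Z).hom ≫ (Over.map τ.h).map (bcPt f y) ≫ E.j := by
      intro y
      rw [← Category.assoc, reassoc_natural, Category.assoc, ← Category.assoc ((Over.map τ.h).map _),
        ← Functor.map_comp, ← bcPt_comp, Category.comp_id]
    have hdot : bcPt f (dot (a.bc f) g x) = dot a (bcPt f g) (bcPt f x) := by
      have := AlgGrp.Action.lift_homEquiv_bc_act f a (bcPt f g) (bcPt f x)
      rw [show (Over.mapPullbackAdj f).homEquiv Z G (bcPt f g) = g from bcPtInv_bcPt f g,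
        show (Over.mapPullbackAdj f).homEquiv Z X (bcPt f x) = x from bcPtInv_bcPt f x] at this
      rw [dot, this]
      exact bcPt_bcPtInv f _
    show (Over.map (f ≫ τ.h)).map _ ≫ _ = _
    rw [hpt, hdot, E.equiv, MonObj.comp_mul]
    congr 1
  ov := by
    simp only [Category.assoc]
    rw [E.ov, ← Category.assoc ((Over.map τ.h).map _), map_cst, ← Category.assoc, ← Category.assoc]
    congr 1

end Groth.Misc15.MultH1
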