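import Groth.Agent.Misc15.MultH1.Res
import Groth.Agent.Misc15.MultH1.Torsor
import Groth.Agent.TorsProper.GlueMain

/-!
Torsors under an isotrivial group of multiplicative type over semilocal algebras over a field come from
points of the quotient torus; lifting of torsors versus lifting of points of the torus.
-/

set_option autoImplicit false
set_option linter.style.haveILetI false
set_option backward.isDefEq.respectTransparency false

universe u

open CategoryTheory CategoryTheory.Limits MonoidalCategory CartesianMonoidalCategory MonObj GrpObj AlgebraicGeometry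
  TensorProduct Opposite
open Groth.Pi1Tors Groth.AlgGrp2

noncomputable section

namespace Groth.Misc15.MultH1

variable {k : Type u} [Field k] {M : Over (Spec (CommRingCat.of k))} [GrpObj M] (D : Res M)

/-- the sequence of a resolution -/
def Res.seq : Seq M D.R D.T where
  i := D.i
  π := D.π
  commR := D.commR
  inj := D.inj
  comp := D.comp
  exact := D.exact
  flat := D.flat
  surj := D.surj
  lfp := D.lfp

variable {A : Type u} [CommRing A] [Algebra k A] {G : Over (Spec (CommRingCat.of A))} [GrpObj G]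
  (τ : Tr M G) (hh : τ.h = str k A)

/-- affine test objects, pushed to the field -/
def spIso (L : Type u) [CommRing L] [Algebra k L] [Algebra A L] [IsScalarTower k A L] :
    (Over.map τ.h).obj (CoactBr.sp A L) ≅ CoactBr.sp k L :=
  Over.isoMk (Iso.refl _) (by
    show 𝟙 _ ≫ Spec.map (CommRingCat.ofHom (algebraMap k L)) =
      Spec.map (CommRingCat.ofHom (algebraMap A L)) ≫ τ.h
    rw [hh, Category.id_comp, ← Spec.map_comp, ← CommRingCat.ofHom_comp, ← IsScalarTower.algebraMap_eq])

theorem spIso_natural {L L' : Type u} [CommRing L] [Algebra k L] [Algebra A L] [IsScalarTower k A L]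
    [CommRing L'] [Algebra k L'] [Algebra A L'] [IsScalarTower k A L'] (φ : L →ₐ[A] L') :
    (Over.map τ.h).map (CoactBr.pt φ) ≫ (spIso τ hh L).hom =
      (spIso τ hh L').hom ≫ CoactBr.pt (φ.restrictScalars k) := by
  ext1
  show Spec.map (CommRingCat.ofHom (φ : L →+* L')) ≫ 𝟙 _ = 𝟙 _ ≫ Spec.map (CommRingCat.ofHom (φ : L →+* L'))
  rw [Category.comp_id, Category.id_comp]

include hh in
/-- Over a semilocal algebra every torsor is the torsor of a point of the quotient. -/
theorem exists_point [Finite (MaximalSpectrum A)] (P : NonAbH1.TorsorSch G Scheme.fppfPrecoverage) :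
    ∃ t : Over.mk τ.h ⟶ D.T, P.cl = (fibTorsor D.seq τ t).cl := by
  obtain ⟨C, _, _, _, hsurj, ⟨x, hx⟩, -⟩ := Groth.TorsProper.Adic.exists_cover P.isTorsor.2 P.isTorsor.2
  haveI := hsurj
  haveI : Module.FaithfullyFlat A C := Module.FaithfullyFlat.of_comap_surjective hsurj.surj
  letI : Algebra k C := ((algebraMap A C).comp (algebraMap k A)).toAlgebra
  haveI : IsScalarTower k A C := IsScalarTower.of_algebraMap_eq fun _ => rfl
  let U := CoactBr.sp A C
  let s : U ⟶ P.X := Over.homMk x hx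
  have hU : LocSurj (toUnit U) := by
    haveI : Flat (Spec.map (CommRingCat.ofHom (algebraMap A C))) :=
      (HasRingHomProperty.Spec_iff (P := @Flat)).2 (RingHom.flat_algebraMap_iff.2 inferInstance)
    refine locSurj_toUnit ⟨Presieve.singleton (Spec.map (CommRingCat.ofHom (algebraMap A C))),
      Scheme.Hom.singleton_mem_fpqcPrecoverage _, ?_⟩
    rintro S' f ⟨⟩
    exact ⟨𝟙 _, Category.id_comp _⟩
  let i1 : C →ₐ[A] C ⊗[A] C := Algebra.TensorProduct.includeLeft
  let i2 : C →ₐ[A] C ⊗[A] C := Algebra.TensorProduct.includeRight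
  let d12 : C ⊗[A] C →ₐ[A] C ⊗[A] (C ⊗[A] C) := Algebra.TensorProduct.map (AlgHom.id A C) i1
  let d13 : C ⊗[A] C →ₐ[A] C ⊗[A] (C ⊗[A] C) := Algebra.TensorProduct.map (AlgHom.id A C) i2
  let d23 : C ⊗[A] C →ₐ[A] C ⊗[A] (C ⊗[A] C) := Algebra.TensorProduct.includeRight
  obtain ⟨m, hm⟩ := exists_dot_eq P.act P.isTorsor.1 (CoactBr.pt i2 ≫ s) (CoactBr.pt i1 ≫ s)
  have hcoc : CoactBr.pt d13 ≫ m = (CoactBr.pt d23 ≫ m) * (CoactBr.pt d12 ≫ m) := by
    refine dot_cancel P.act P.isTorsor.1 (x := CoactBr.pt d13 ≫ CoactBr.pt i1 ≫ s) ?_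
    have e1 : CoactBr.pt d13 ≫ CoactBr.pt i1 = CoactBr.pt d12 ≫ CoactBr.pt i1 := by
      rw [← CoactBr.pt_comp, ← CoactBr.pt_comp]; congr 1
    have e2 : CoactBr.pt d12 ≫ CoactBr.pt i2 = CoactBr.pt d23 ≫ CoactBr.pt i1 := by
      rw [← CoactBr.pt_comp, ← CoactBr.pt_comp]; congr 1
    have e3 : CoactBr.pt d23 ≫ CoactBr.pt i2 = CoactBr.pt d13 ≫ CoactBr.pt i2 := by
      rw [← CoactBr.pt_comp, ← CoactBr.pt_comp]; congr 1
    rw [← comp_dot, hm, mul_dot, ← Category.assoc (CoactBr.pt d13) (CoactBr.pt i1), e1, Category.assoc,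
      ← comp_dot, hm, ← Category.assoc (CoactBr.pt d12), e2, Category.assoc, ← comp_dot, hm,
      ← Category.assoc (CoactBr.pt d23), e3, Category.assoc]
  let c : CoactBr.sp k (C ⊗[A] C) ⟶ D.R :=
    (spIso τ hh (C ⊗[A] C)).inv ≫ τ.e _ m ≫ D.i
  have hmap : ∀ {L L' : Type u} [CommRing L] [Algebra k L] [Algebra A L] [IsScalarTower k A L]
      [CommRing L'] [Algebra k L'] [Algebra A L'] [IsScalarTower k A L'] (φ : L →ₐ[A] L'),
      CoactBr.pt (φ.restrictScalars k) ≫ (spIso τ hh L).inv =
        (spIso τ hh L').inv ≫ (Over.map τ.h).map (CoactBr.pt φ) := by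
    intro L L' _ _ _ _ _ _ _ _ φ
    rw [Iso.eq_inv_comp, ← Category.assoc, Iso.comp_inv_eq, spIso_natural]
  obtain ⟨r₀, hr₀⟩ := D.h90 A C c (by
    show CoactBr.pt (d13.restrictScalars k) ≫ c =
      (CoactBr.pt (d23.restrictScalars k) ≫ c) * (CoactBr.pt (d12.restrictScalars k) ≫ c)
    simp only [c, ← Category.assoc]
    rw [hmap d13, hmap d23, hmap d12]
    simp only [Category.assoc]
    have hn : ∀ {Z W : Over (Spec (CommRingCat.of A))} (f : W ⟶ Z) (w : Z ⟶ G),
        (Over.map τ.h).map f ≫ τ.e Z w ≫ D.i = τ.e W (f ≫ w) ≫ D.i := fun f w => by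
      rw [← Category.assoc, ← τ.nat]
    rw [hn, hn, hn, hcoc, map_mul, MonObj.mul_comp, MonObj.comp_mul])
  let r : (Over.map τ.h).obj U ⟶ D.R := (spIso τ hh C).hom ≫ r₀
  have hr : (Over.map τ.h).map (CoactBr.pt i2) ≫ r =
      (τ.e _ m ≫ D.i) * ((Over.map τ.h).map (CoactBr.pt i1) ≫ r) := by
    simp only [r, ← Category.assoc]
    rw [spIso_natural, spIso_natural, Category.assoc, Category.assoc, hr₀, MonObj.comp_mul]
    simp [c]
    rfl
  -- an arbitrary pair of points of the cover comes from the double cover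
  have huniv : ∀ {Z : Over (Spec (CommRingCat.of A))} (a b : Z ⟶ U),
      ∃ q : Z ⟶ CoactBr.sp A (C ⊗[A] C), q ≫ CoactBr.pt i1 = a ∧ q ≫ CoactBr.pt i2 = b := by
    intro Z a b
    letI : (algSpec (CommRingCat.of A)).Braided := braidedAlgSpec
    let e := Functor.Monoidal.μIso (algSpec (CommRingCat.of A)) (op (.of A C)) (op (.of A C))
    have h1 : e.hom ≫ CoactBr.pt i1 = fst U U := Functor.Monoidal.μ_fst (algSpec (CommRingCat.of A)) _ _
    have h2 : e.hom ≫ CoactBr.pt i2 = snd U U := Functor.Monoidal.μ_snd (algSpec (CommRingCat.of A)) _ _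
    exact ⟨lift a b ≫ e.hom, by rw [Category.assoc, h1, lift_fst], by rw [Category.assoc, h2, lift_snd]⟩
  have hkey : ∀ (Z : Over (Spec (CommRingCat.of A))) (a b : Z ⟶ U) (g : Z ⟶ G),
      dot P.act g (a ≫ s) = b ≫ s →
      (Over.map τ.h).map b ≫ r = (τ.e Z g ≫ D.i) * ((Over.map τ.h).map a ≫ r) := by
    intro Z a b g hg
    obtain ⟨q, rfl, rfl⟩ := huniv a b
    have hgm : g = q ≫ m := by
      refine dot_cancel P.act P.isTorsor.1 (x := (q ≫ CoactBr.pt i1) ≫ s) ?_
      rw [hg, Category.assoc, Category.assoc, ← comp_dot, hm]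
    rw [hgm, Functor.map_comp, Category.assoc, hr, MonObj.comp_mul, τ.nat, Functor.map_comp,
      Category.assoc, Category.assoc]
  obtain ⟨t, ht⟩ := exists_desc_const (τ := τ) hU (r ≫ D.π) fun Z a b => by
    obtain ⟨g, hg⟩ := exists_dot_eq P.act P.isTorsor.1 (b ≫ s) (a ≫ s)
    rw [← Category.assoc _ r, ← Category.assoc _ r, hkey Z a b g hg, MonObj.mul_comp,
      Category.assoc (τ.e Z g), D.comp, _root_.one_mul]
  refine ⟨t, Quot.sound (equivIso_of_sections P.isTorsor.1 (isPseudoTorsorSch_fibAct D.seq τ t) hU s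
    (fibPt D.seq τ t r ht.symm) fun Z a b g hg => fib_ext D.seq τ t ?_)⟩
  show (Over.map τ.h).map (lift g _ ≫ fibActHom D.seq τ t) ≫ _ = _
  rw [lift_fibActHom, Functor.map_comp, Category.assoc, fibPt_map, Functor.map_comp, Category.assoc, fibPt_map]
  exact (hkey Z a b g hg).symm

theorem finite_maximalSpectrum_local (B : Type u) [CommRing B] [IsLocalRing B] : Finite (MaximalSpectrum B) :=
  inferInstance

/-- The residue map of a local algebra on points. -/
def resMap (A : Type u) [CommRing A] [IsLocalRing A] [Algebra k A] :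
    Over.mk ((Tr.ofBC M (str k A)).bc (Spec.map (CommRingCat.ofHom (IsLocalRing.residue A)))).h ⟶
      Over.mk (Tr.ofBC M (str k A)).h :=
  Over.homMk (Spec.map (CommRingCat.ofHom (IsLocalRing.residue A))) rfl

theorem str_residue (A : Type u) [CommRing A] [IsLocalRing A] [Algebra k A] :
    Spec.map (CommRingCat.ofHom (IsLocalRing.residue A)) ≫ str k A = str k (IsLocalRing.ResidueField A) := by
  rw [← Spec.map_comp, ← CommRingCat.ofHom_comp]
  have h : (IsLocalRing.residue A).comp (algebraMap k A) = algebraMap k (IsLocalRing.ResidueField A) :=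
    RingHom.ext fun r => (IsScalarTower.algebraMap_apply k A (IsLocalRing.ResidueField A) r).symm
  rw [h]

theorem pt_residue_left (A : Type u) [CommRing A] [IsLocalRing A] [Algebra k A] :
    (CoactBr.pt (IsScalarTower.toAlgHom k A (IsLocalRing.ResidueField A))).left =
      Spec.map (CommRingCat.ofHom (IsLocalRing.residue A)) := by
  have h : (IsScalarTower.toAlgHom k A (IsLocalRing.ResidueField A)).toRingHom = IsLocalRing.residue A :=
    RingHom.ext fun r => rfl
  rw [CoactBr.pt_left, h]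

/-- Points of the middle group lift. -/
theorem exists_lift_R (A : Type u) [CommRing A] [IsLocalRing A] [Algebra k A]
    (ρ : Over.mk ((Tr.ofBC M (str k A)).bc (Spec.map (CommRingCat.ofHom (IsLocalRing.residue A)))).h ⟶ D.R) :
    ∃ ρ' : Over.mk (Tr.ofBC M (str k A)).h ⟶ D.R, resMap A ≫ ρ' = ρ := by
  have hw : ρ.left ≫ D.R.hom = str k (IsLocalRing.ResidueField A) := (Over.w ρ).trans (str_residue A)
  obtain ⟨y, hy⟩ := D.lift A (Over.homMk ρ.left hw)
  refine ⟨Over.homMk y.left (Over.w y), Over.OverMorphism.ext ?_⟩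
  have h1 : (CoactBr.pt (IsScalarTower.toAlgHom k A (IsLocalRing.ResidueField A))).left ≫ y.left = ρ.left :=
    congrArg CommaMorphism.left hy
  rw [pt_residue_left] at h1
  exact h1

/-- The surjectivity of reduction on torsors is the surjectivity of reduction on points of the torus. -/
theorem h1_surjective (A : Type u) [CommRing A] [IsLocalRing A] [Algebra k A]
    (hT : ∀ u : Over.mk ((Tr.ofBC M (str k A)).bc (Spec.map (CommRingCat.ofHom (IsLocalRing.residue A)))).h ⟶ D.T,
      ∃ s, resMap A ≫ s = u) :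
    Function.Surjective
      (NonAbH1.H1Sch.bcMap (Spec.map (CommRingCat.ofHom (IsLocalRing.residue A)))
        (Red.bc (str k A) M) Scheme.fppfPrecoverage) := by
  intro c
  induction c using Quot.ind with
  | _ P =>
    let τ := Tr.ofBC M (str k A)
    let f := Spec.map (CommRingCat.ofHom (IsLocalRing.residue A))
    haveI : Finite (MaximalSpectrum (IsLocalRing.ResidueField A)) := finite_maximalSpectrum_local _
    obtain ⟨u, hu⟩ := exists_point D (τ.bc f) (str_residue A) P
    obtain ⟨s, hs⟩ := hT u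
    refine ⟨(fibTorsor D.seq τ s).cl, ?_⟩
    rw [← NonAbH1.TorsorSch.cl_bc, Emb.cl_eq (P := (fibTorsor D.seq τ s).bc f) ((fibEmb D.seq τ s).bc f)]
    exact (congrArg (fun w => (fibTorsor D.seq (τ.bc f) w).cl) hs).trans hu.symm

/-- Conversely. -/
theorem torus_surjective (A : Type u) [CommRing A] [IsLocalRing A] [Algebra k A]
    (h : Function.Surjective
      (NonAbH1.H1Sch.bcMap (Spec.map (CommRingCat.ofHom (IsLocalRing.residue A)))
        (Red.bc (str k A) M) Scheme.fppfPrecoverage))
    (u : Over.mk ((Tr.ofBC M (str k A)).bc (Spec.map (CommRingCat.ofHom (IsLocalRing.residue A)))).h ⟶ D.T) :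
    ∃ s, resMap A ≫ s = u := by
  let τ := Tr.ofBC M (str k A)
  let f := Spec.map (CommRingCat.ofHom (IsLocalRing.residue A))
  obtain ⟨c, hc⟩ := h (fibTorsor D.seq (τ.bc f) u).cl
  induction c using Quot.ind with
  | _ P =>
    haveI : Finite (MaximalSpectrum A) := finite_maximalSpectrum_local _
    obtain ⟨t, ht⟩ := exists_point D τ rfl P
    rw [show Quot.mk _ P = P.cl from rfl, ht, ← NonAbH1.TorsorSch.cl_bc,
      Emb.cl_eq (P := (fibTorsor D.seq τ t).bc f) ((fibEmb D.seq τ t).bc f)] at hc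
    obtain ⟨ρ, hρ⟩ := exists_ratio_of_cl_eq hc
    obtain ⟨ρ', hρ'⟩ := exists_lift_R D A ρ
    refine ⟨(ρ' ≫ D.π) * t, ?_⟩
    rw [MonObj.comp_mul, ← Category.assoc, hρ']
    exact hρ.symm

end Groth.Misc15.MultH1
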