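import Groth.Agent.Misc15.MultH1.Forms
import Groth.Agent.Reductive.GroupAlgFF

/-!
A resolution of a group of multiplicative type over a field by a quasi-trivial torus.
-/

set_option autoImplicit false
set_option linter.style.haveILetI false

universe u

open CategoryTheory CategoryTheory.Limits MonoidalCategory CartesianMonoidalCategory MonObj AlgebraicGeometry
  TensorProduct
open Groth.AlgGrp2 Groth.TorusPts Groth.Misc15.RatTorus

noncomputable section

namespace Groth.Misc15.MultH1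

variable {k : Type u} [Field k]

local instance braidedAlgSpecRes (R : Type u) [CommRing R] : (algSpec (CommRingCat.of R)).Braided :=
  braidedAlgSpec

/-- A resolution `1 → M → R → T → 1` with `R` cohomologically trivial over semilocal rings. -/
structure Res (M : Over (Spec (CommRingCat.of k))) [GrpObj M] where
  /-- the quasi-trivial torus -/
  R : Over (Spec (CommRingCat.of k))
  [gR : GrpObj R]
  /-- the quotient torus -/
  T : Over (Spec (CommRingCat.of k))
  [gT : GrpObj T]
  /-- the inclusion -/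
  i : M ⟶ R
  /-- the quotient map -/
  π : R ⟶ T
  [hi : IsMonHom i]
  [hπ : IsMonHom π]
  commR : ∀ {Z : Over (Spec (CommRingCat.of k))} (x y : Z ⟶ R), x * y = y * x
  inj : ∀ {Z : Over (Spec (CommRingCat.of k))} (g g' : Z ⟶ M), g ≫ i = g' ≫ i → g = g'
  comp : ∀ {Z : Over (Spec (CommRingCat.of k))} (g : Z ⟶ M), g ≫ i ≫ π = 1
  exact : ∀ {Z : Over (Spec (CommRingCat.of k))} (x : Z ⟶ R), x ≫ π = 1 → ∃ g, g ≫ i = x
  flat : Flat π.left
  surj : Surjective π.left
  affine : IsAffineHom π.left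
  lfp : LocallyOfFinitePresentation π.left
  h90 : ∀ (A C : Type u) [CommRing A] [Algebra k A] [Finite (MaximalSpectrum A)] [CommRing C] [Algebra k C]
    [Algebra A C] [IsScalarTower k A C] [Module.FaithfullyFlat A C] (c : CoactBr.sp k (C ⊗[A] C) ⟶ R),
    CoactBr.pt ((Algebra.TensorProduct.map (AlgHom.id A C)
        (Algebra.TensorProduct.includeRight : C →ₐ[A] C ⊗[A] C)).restrictScalars k) ≫ c =
      (CoactBr.pt ((Algebra.TensorProduct.includeRight :
          C ⊗[A] C →ₐ[A] C ⊗[A] (C ⊗[A] C)).restrictScalars k) ≫ c) *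
      (CoactBr.pt ((Algebra.TensorProduct.map (AlgHom.id A C)
          (Algebra.TensorProduct.includeLeft : C →ₐ[A] C ⊗[A] C)).restrictScalars k) ≫ c) →
    ∃ r : CoactBr.sp k C ⟶ R,
      CoactBr.pt ((Algebra.TensorProduct.includeRight : C →ₐ[A] C ⊗[A] C).restrictScalars k) ≫ r =
        c * (CoactBr.pt ((Algebra.TensorProduct.includeLeft : C →ₐ[A] C ⊗[A] C).restrictScalars k) ≫ r)
  lift : ∀ (A : Type u) [CommRing A] [IsLocalRing A] [Algebra k A]
    (x : CoactBr.sp k (IsLocalRing.ResidueField A) ⟶ R),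
    ∃ y : CoactBr.sp k A ⟶ R, CoactBr.pt (IsScalarTower.toAlgHom k A (IsLocalRing.ResidueField A)) ≫ y = x
  torus : ∃ r : ℕ, TwC.Locally (Spec (CommRingCat.of k)) .finiteEtale
    (fun S' g => Red.IsSplitTorusWith (Fin r → ℤ) (Red.bc g T))

attribute [instance] Res.gR Res.gT Res.hi Res.hπ

/-- Morphisms to affine schemes factor through the affine hull. -/
theorem exists_hull (Z : Over (Spec (CommRingCat.of k))) :
    ∃ (S : Type u) (_ : CommRing S) (_ : Algebra k S) (c : Z ⟶ CoactBr.sp k S),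
      ∀ (A : Type u) [CommRing A] [Algebra k A],
        Function.Bijective fun x : CoactBr.sp k S ⟶ CoactBr.sp k A => c ≫ x := by
  letI : Algebra k Γ(Z.left, ⊤) := ((Scheme.ΓSpecIso _).inv ≫ Z.hom.appTop).hom.toAlgebra
  have hc : Z.left.toSpecΓ ≫ Spec.map (CommRingCat.ofHom (algebraMap k Γ(Z.left, ⊤))) = Z.hom := by
    refine ext_of_isAffine ?_
    rw [Scheme.Hom.comp_appTop, Scheme.toSpecΓ_appTop, Scheme.ΓSpecIso_naturality,
      show CommRingCat.ofHom (algebraMap k Γ(Z.left, ⊤)) = (Scheme.ΓSpecIso _).inv ≫ Z.hom.appTop from rfl,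
      Iso.hom_inv_id_assoc]
  refine ⟨Γ(Z.left, ⊤), inferInstance, inferInstance, Over.homMk Z.left.toSpecΓ hc, fun A _ _ => ⟨?_, ?_⟩⟩
  · intro x y h
    obtain ⟨φ, rfl⟩ := pt_surjective x
    obtain ⟨ψ, rfl⟩ := pt_surjective y
    congr 1
    have h0 : Z.left.toSpecΓ ≫ Spec.map (CommRingCat.ofHom φ.toRingHom) =
        Z.left.toSpecΓ ≫ Spec.map (CommRingCat.ofHom ψ.toRingHom) := congrArg CommaMorphism.left h
    have h1 := congrArg (fun w => (Scheme.ΓSpecIso _).inv ≫ w.appTop) h0
    simp only [Scheme.Hom.comp_appTop, Scheme.toSpecΓ_appTop, Scheme.ΓSpecIso_naturality,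
      Iso.inv_hom_id_assoc] at h1
    exact AlgHom.coe_ringHom_injective (congrArg CommRingCat.Hom.hom h1)
  · intro x
    let xl : Z.left ⟶ Spec (CommRingCat.of A) := x.left
    let f : CommRingCat.of A ⟶ Γ(Z.left, ⊤) := (Scheme.ΓSpecIso _).inv ≫ xl.appTop
    have hf : Z.left.toSpecΓ ≫ Spec.map f = xl := by
      refine ext_of_isAffine ?_
      rw [Scheme.Hom.comp_appTop, Scheme.toSpecΓ_appTop, Scheme.ΓSpecIso_naturality, Iso.hom_inv_id_assoc]
    let φ : A →ₐ[k] Γ(Z.left, ⊤) :=
      { f.hom with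
        commutes' := fun r => by
          have h1 : xl ≫ Spec.map (CommRingCat.ofHom (algebraMap k A)) = Z.hom := Over.w x
          show f.hom (algebraMap k A r) = ((Scheme.ΓSpecIso _).inv ≫ Z.hom.appTop).hom r
          rw [← h1, Scheme.Hom.comp_appTop, ← Scheme.ΓSpecIso_inv_naturality_assoc]
          rfl }
    refine ⟨CoactBr.pt φ, ?_⟩
    ext1
    exact hf

section Existence

variable {E : Type u} [Field E] [Algebra k E] [FiniteDimensional k E] [IsGalois k E]

theorem faithfullyFlat_of_chr (P K : Form k E) (incl : K.N →* P.N) (hincl : Function.Injective incl)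
    (φ : K.A →ₐ[k] P.A) (hφ : ∀ m, K.V φ m = chr P.e (incl m)) : (φ : K.A →+* P.A).FaithfullyFlat := by
  let g := bmap E φ
  let eK : E ⊗[k] K.A ≃ₐ[E] MonoidAlgebra E K.N := K.e
  let eP : E ⊗[k] P.A ≃ₐ[E] MonoidAlgebra E P.N := P.e
  have hg : g = (eP.symm.toAlgHom.comp (MonoidAlgebra.mapDomainAlgHom E E incl)).comp eK.toAlgHom := by
    have h : g.comp eK.symm.toAlgHom = eP.symm.toAlgHom.comp (MonoidAlgebra.mapDomainAlgHom E E incl) := by
      apply MonoidAlgebra.algHom_ext
      case single_one_left => exact Subsingleton.elim _ _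
      intro m
      show g (eK.symm (MonoidAlgebra.single m 1)) = eP.symm _
      simp only [MonoidAlgebra.mapDomainAlgHom_apply, MonoidAlgebra.mapDomain_single, AlgHom.coe_toRingHom, RingHom.coe_coe]
      exact hφ m
    rw [← h, AlgHom.comp_assoc, AlgEquiv.symm_comp, AlgHom.comp_id]
  have hgff : (g : E ⊗[k] K.A →+* E ⊗[k] P.A).FaithfullyFlat := by
    rw [hg]
    exact RingHom.FaithfullyFlat.stableUnderComposition _ _
      (RingHom.FaithfullyFlat.of_bijective (f := (eK : E ⊗[k] K.A →+* MonoidAlgebra E K.N)) eK.bijective)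
      (RingHom.FaithfullyFlat.stableUnderComposition _ _
        (Groth.Reductive.GroupAlgFF.faithfullyFlat_mapDomain incl hincl)
        (RingHom.FaithfullyFlat.of_bijective (f := (eP.symm : MonoidAlgebra E P.N →+* E ⊗[k] P.A))
          eP.symm.bijective))
  have hinc : ∀ (B : Type u) [CommRing B] [Algebra k B],
      ((Algebra.TensorProduct.includeRight : B →ₐ[k] E ⊗[k] B) : B →+* E ⊗[k] B).FaithfullyFlat := by
    intro B _ _
    letI : Algebra B (E ⊗[k] B) := Algebra.TensorProduct.rightAlgebra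
    show (algebraMap B (E ⊗[k] B)).FaithfullyFlat
    rw [RingHom.faithfullyFlat_algebraMap_iff]
    exact Module.FaithfullyFlat.of_linearEquiv _ _
      (Algebra.TensorProduct.commRight k B E).symm.toLinearEquiv
  have hcomp : ((Algebra.TensorProduct.includeRight : P.A →ₐ[k] E ⊗[k] P.A) : P.A →+* E ⊗[k] P.A).comp
      (φ : K.A →+* P.A) = (g : E ⊗[k] K.A →+* E ⊗[k] P.A).comp
        ((Algebra.TensorProduct.includeRight : K.A →ₐ[k] E ⊗[k] K.A) : K.A →+* E ⊗[k] K.A) :=
    RingHom.ext fun a => by simp [g]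
  have h := RingHom.FaithfullyFlat.stableUnderComposition _ _ (hinc K.A) hgff
  rw [← hcomp] at h
  rw [RingHom.FaithfullyFlat.iff_flat_and_comap_surjective]
  refine ⟨?_, fun p => ?_⟩
  · letI : Algebra K.A P.A := (φ : K.A →+* P.A).toAlgebra
    letI : Algebra K.A (E ⊗[k] P.A) := (((Algebra.TensorProduct.includeRight : P.A →ₐ[k] E ⊗[k] P.A) :
      P.A →+* E ⊗[k] P.A).comp (φ : K.A →+* P.A)).toAlgebra
    have hflat : Module.Flat K.A (E ⊗[k] P.A) := RingHom.FaithfullyFlat.flat h
    show Module.Flat K.A P.A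
    obtain ⟨r, hr⟩ := (Algebra.linearMap k E).exists_leftInverse_of_injective
      (LinearMap.ker_eq_bot.2 (algebraMap k E).injective)
    let ret0 : E ⊗[k] P.A →ₗ[k] P.A := (TensorProduct.lid k P.A).toLinearMap.comp (r.rTensor P.A)
    have hret : ∀ (a : P.A) (w : E ⊗[k] P.A), ret0 (((1 : E) ⊗ₜ[k] a) * w) = a * ret0 w := by
      intro a w
      induction w using TensorProduct.induction_on with
      | zero => simp
      | add x y hx hy => simp only [mul_add, map_add, hx, hy]
      | tmul c b => simp [ret0]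
    let ret : E ⊗[k] P.A →ₗ[K.A] P.A :=
      { toFun := ret0
        map_add' := map_add ret0
        map_smul' := fun a w => hret (φ a) w }
    let inc : P.A →ₗ[K.A] E ⊗[k] P.A :=
      { toFun := fun b => (1 : E) ⊗ₜ[k] b
        map_add' := fun a b => TensorProduct.tmul_add _ _ _
        map_smul' := fun a b => by
          show (1 : E) ⊗ₜ[k] (φ a * b) = ((1 : E) ⊗ₜ[k] φ a) * ((1 : E) ⊗ₜ[k] b)
          rw [Algebra.TensorProduct.tmul_mul_tmul, _root_.mul_one] }
    refine Module.Flat.of_retract inc ret (LinearMap.ext fun b => ?_)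
    show ret0 ((1 : E) ⊗ₜ[k] b) = b
    have h1 : r 1 = 1 := by simpa using LinearMap.congr_fun hr 1
    simp [ret0, h1]
  · obtain ⟨q, hq⟩ := ((RingHom.FaithfullyFlat.iff_flat_and_comap_surjective.1 h).2) p
    exact ⟨_, (PrimeSpectrum.comap_comp_apply _ _ q).symm.trans hq⟩

omit [IsGalois k E] in
theorem finiteType_form (F : Form k E) [Group.FG F.N] : Algebra.FiniteType k F.A := by
  haveI : Monoid.FG F.N := Group.fg_iff_monoid_fg.1 inferInstance
  haveI : Algebra.FiniteType E (E ⊗[k] F.A) :=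
    Algebra.FiniteType.equiv (inferInstance : Algebra.FiniteType E (MonoidAlgebra E F.N))
      (F.e : E ⊗[k] F.A ≃ₐ[E] MonoidAlgebra E F.N).symm
  exact Algebra.FiniteType.of_finiteType_tensorProduct_of_faithfullyFlat E

variable {J : Type u} [Fintype J] (P : Form k E) (eP : PermLat (E ≃ₐ[k] E) J ≃* P.N)
  (heP : ∀ g q, P.ρ g (eP q) = eP (permAct _ J g q)) {S : Type u} [CommRing S] [Algebra k S]

/-- the coordinates of a point of the quasi-trivial torus -/
def coord [DecidableEq J] [DecidableEq (E ≃ₐ[k] E)] (x : CoactBr.sp k S ⟶ P.sch) (l : J) : (E ⊗[k] S)ˣ :=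
  (P.W x).toHomUnits (eP (bv (1, l)))

theorem coord_val [DecidableEq J] [DecidableEq (E ≃ₐ[k] E)] (x : CoactBr.sp k S ⟶ P.sch) (l : J) :
    (coord P eP x l : E ⊗[k] S) = P.W x (eP (bv (1, l))) := rfl

include heP in
theorem coord_ext [DecidableEq J] [DecidableEq (E ≃ₐ[k] E)] {x y : CoactBr.sp k S ⟶ P.sch}
    (h : ∀ l, (coord P eP x l : E ⊗[k] S) = coord P eP y l) : x = y := by
  apply P.W_injective
  suffices hh : (P.W x).comp eP.toMonoidHom = (P.W y).comp eP.toMonoidHom from
    MonoidHom.ext fun m => by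
      have := DFunLike.congr_fun hh (eP.symm m)
      simpa using this
  refine permHom_ext fun x' => ?_
  have hb : eP (bv x') = P.ρ x'.1 (eP (bv (1, x'.2))) := by
    rw [heP, permAct_bv, _root_.mul_one]
  show P.W x (eP (bv x')) = P.W y (eP (bv x'))
  rw [hb, ← P.W_equiv, ← P.W_equiv]
  exact congrArg _ (h x'.2)

include heP in
theorem exists_coord [DecidableEq J] [DecidableEq (E ≃ₐ[k] E)] (u : J → (E ⊗[k] S)ˣ) :
    ∃ x : CoactBr.sp k S ⟶ P.sch, ∀ l, coord P eP x l = u l := by
  let α : (E ≃ₐ[k] E) → ((E ⊗[k] S)ˣ →* (E ⊗[k] S)ˣ) := fun g =>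
    Units.map (galS g S : E ⊗[k] S →* E ⊗[k] S)
  let v : (E ≃ₐ[k] E) × J → (E ⊗[k] S)ˣ := fun x => α x.1 (u x.2)
  have hv : ∀ g x, α g (v x) = v (g * x.1, x.2) := fun g x => Units.ext (by
    show galS g S (galS x.1 S (u x.2)) = galS (g * x.1) S (u x.2)
    generalize (u x.2 : E ⊗[k] S) = z
    induction z using TensorProduct.induction_on with
    | zero => simp
    | add a b ha hb => simp only [map_add, ha, hb]
    | tmul c s => simp)
  obtain ⟨x, hx⟩ := P.exists_W (S := S)
    (((Units.coeHom _).comp (permHom v)).comp eP.symm.toMonoidHom) fun g m => by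
      obtain ⟨q, rfl⟩ := eP.surjective m
      rw [heP]
      show galS g S (permHom v (eP.symm (eP q)) : E ⊗[k] S) =
        (permHom v (eP.symm (eP (permAct _ J g q))) : E ⊗[k] S)
      rw [MulEquiv.symm_apply_apply, MulEquiv.symm_apply_apply, ← permHom_equiv v α hv]
      rfl
  refine ⟨x, fun l => Units.ext ?_⟩
  rw [coord_val, hx]
  show (permHom v (eP.symm (eP (bv (1, l)))) : E ⊗[k] S) = u l
  rw [MulEquiv.symm_apply_apply, permHom_bv]
  show galS 1 S (u l) = (u l : E ⊗[k] S)
  generalize (u l : E ⊗[k] S) = z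
  induction z using TensorProduct.induction_on with
  | zero => simp
  | add a b ha hb => simp only [map_add, ha, hb]
  | tmul c s => simp

theorem coord_comp [DecidableEq J] [DecidableEq (E ≃ₐ[k] E)] {S' : Type u} [CommRing S'] [Algebra k S']
    (f : S →ₐ[k] S') (x : CoactBr.sp k S ⟶ P.sch) (l : J) :
    (coord P eP (CoactBr.pt f ≫ x) l : E ⊗[k] S') = bmap E f (coord P eP x l) := by
  rw [coord_val, coord_val, P.W_comp]

theorem coord_mul [DecidableEq J] [DecidableEq (E ≃ₐ[k] E)] (x y : CoactBr.sp k S ⟶ P.sch) (l : J) :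
    (coord P eP (x * y) l : E ⊗[k] S) = coord P eP x l * coord P eP y l := by
  rw [coord_val, coord_val, coord_val, P.W_mul, MonoidHom.mul_apply]

end Existence

/-- A split form has such a resolution, given by a permutation cover of its characters. -/
theorem exists_resCover {M : Over (Spec (CommRingCat.of k))} [GrpObj M] {E : Type u} [Field E]
    [Algebra k E] [FiniteDimensional k E] [IsGalois k E] (F : Form k E) (j : F.sch ≅ M) [IsMonHom j.hom]
    [Group.FG F.N] :
    ∃ (J : Type u) (_ : Fintype J) (P Q : Form k E) (eP : PermLat (E ≃ₐ[k] E) J ≃* P.N) (p : P.N →* F.N)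
      (incl : Q.N →* P.N),
      (∀ g q, P.ρ g (eP q) = eP (permAct _ J g q)) ∧ (∀ g m, p (P.ρ g m) = F.ρ g (p m)) ∧
      (∀ g m, incl (Q.ρ g m) = P.ρ g (incl m)) ∧ Function.Surjective p ∧ Function.Injective incl ∧
      (∀ q, p q = 1 ↔ q ∈ Set.range incl) ∧
      ∃ (D : Res M) (eR : D.R ≅ P.sch) (eT : D.T ≅ Q.sch), IsMonHom eR.hom ∧ IsMonHom eT.hom ∧
        ∀ (S : Type u) [CommRing S] [Algebra k S] (x : CoactBr.sp k S ⟶ D.R),
          Q.W ((x ≫ D.π) ≫ eT.hom) = (P.W (x ≫ eR.hom)).comp incl := by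
  classical
  haveI : IsMonHom j.inv := inferInstance
  obtain ⟨J, _, P, K, eP, p, incl, heP, hp, hincl, hpsurj, hinj, hexact, r, ⟨eK⟩⟩ := exists_cover F
  obtain ⟨φi, hφi, -, hWi⟩ := F.exists_map P p hp
  obtain ⟨φπ, hφπ, hVπ, hWπ⟩ := P.exists_map K incl hincl
  haveI := hφi; haveI := hφπ
  let i : M ⟶ P.sch := j.inv ≫ CoactBr.pt φi
  let π : P.sch ⟶ K.sch := CoactBr.pt φπ
  have hff := faithfullyFlat_of_chr P K incl hinj φπ hVπ
  haveI : Group.FG (Multiplicative ((E ≃ₐ[k] E) × J → ℤ)) :=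
    AddGroup.fg_iff_mul_fg.1 (Module.Finite.iff_addGroup_fg.1 inferInstance)
  haveI : Group.FG P.N := Group.fg_of_surjective (f := eP.toMonoidHom) eP.surjective
  haveI : Group.FG (Multiplicative (Fin r → ℤ)) :=
    AddGroup.fg_iff_mul_fg.1 (Module.Finite.iff_addGroup_fg.1 inferInstance)
  haveI : Group.FG K.N := Group.fg_of_surjective (f := eK.symm.toMonoidHom) eK.symm.surjective
  haveI := finiteType_form P
  haveI := finiteType_form K
  refine ⟨J, inferInstance, P, K, eP, p, incl, heP, hp, hincl, hpsurj, hinj, hexact, ({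
    R := P.sch, T := K.sch, i := i, π := π,
    commR := ?_, inj := ?_, comp := ?_, exact := ?_, flat := ?_, surj := ?_, affine := ?_, lfp := ?_,
    h90 := ?_, lift := ?_, torus := ⟨r, locally_sp eK K.e⟩ } : Res M), Iso.refl _, Iso.refl _,
    (inferInstance : IsMonHom (𝟙 P.sch)), (inferInstance : IsMonHom (𝟙 K.sch)), fun S _ _ x => ?_⟩
  · intro Z x y
    obtain ⟨S, _, _, c, hc⟩ := exists_hull Z
    obtain ⟨x', rfl⟩ := (hc P.A).2 x
    obtain ⟨y', rfl⟩ := (hc P.A).2 y
    show (c ≫ x') * (c ≫ y') = (c ≫ y') * (c ≫ x')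
    rw [← MonObj.comp_mul, ← MonObj.comp_mul, P.commute]
  · intro Z g g' h
    obtain ⟨S, _, _, c, hc⟩ := exists_hull Z
    obtain ⟨x, hx⟩ := (hc F.A).2 (g ≫ j.inv)
    obtain ⟨x', hx'⟩ := (hc F.A).2 (g' ≫ j.inv)
    rw [← cancel_mono j.inv, ← hx, ← hx']
    have h1 : x ≫ CoactBr.pt φi = x' ≫ CoactBr.pt φi := (hc P.A).1 (by
      show c ≫ x ≫ _ = c ≫ x' ≫ _
      rw [← Category.assoc, ← Category.assoc]
      show (c ≫ x) ≫ _ = (c ≫ x') ≫ _
      simp only at hx hx'
      rw [hx, hx', Category.assoc, Category.assoc]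
      exact h)
    refine congrArg (fun w => c ≫ w) (F.W_injective ?_)
    have h2 := congrArg P.W h1
    rw [hWi, hWi] at h2
    refine MonoidHom.ext fun m => ?_
    obtain ⟨q, rfl⟩ := hpsurj m
    exact DFunLike.congr_fun h2 q
  · intro Z g
    obtain ⟨S, _, _, c, hc⟩ := exists_hull Z
    obtain ⟨x, hx⟩ := (hc F.A).2 (g ≫ j.inv)
    simp only at hx
    show g ≫ (j.inv ≫ CoactBr.pt φi) ≫ π = 1
    rw [Category.assoc, ← Category.assoc, ← hx, Category.assoc]
    rw [show x ≫ CoactBr.pt φi ≫ π = 1 from K.W_injective ?_, MonObj.comp_one]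
    rw [← Category.assoc, hWπ, hWi, K.W_one]
    refine MonoidHom.ext fun m => ?_
    show F.W x (p (incl m)) = 1
    rw [(hexact _).2 ⟨m, rfl⟩, map_one]
  · intro Z x hx
    obtain ⟨S, _, _, c, hc⟩ := exists_hull Z
    obtain ⟨x', rfl⟩ := (hc P.A).2 x
    have h1 : x' ≫ π = 1 := (hc K.A).1 (by
      show c ≫ x' ≫ π = c ≫ 1
      rw [← Category.assoc, MonObj.comp_one]
      exact hx)
    have h2 : (P.W x').comp incl = 1 := by
      rw [← hWπ, h1, K.W_one]
    let χu : F.N →* (E ⊗[k] S)ˣ := p.liftOfSurjective hpsurj ⟨(P.W x').toHomUnits, fun q hq => by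
      obtain ⟨m, rfl⟩ := (hexact q).1 (MonoidHom.mem_ker.1 hq)
      exact Units.ext (DFunLike.congr_fun h2 m)⟩
    have hχ : ∀ q, (χu (p q) : E ⊗[k] S) = P.W x' q := fun q =>
      congrArg Units.val (MonoidHom.liftOfRightInverse_comp_apply p _ _ _ q)
    obtain ⟨y, hy⟩ := F.exists_W ((Units.coeHom _).comp χu) fun g m => by
      obtain ⟨q, rfl⟩ := hpsurj m
      show galS g S (χu (p q) : E ⊗[k] S) = χu (F.ρ g (p q))
      rw [← hp, hχ, hχ, P.W_equiv]
    refine ⟨c ≫ y ≫ j.hom, ?_⟩
    show (c ≫ y ≫ j.hom) ≫ j.inv ≫ CoactBr.pt φi = c ≫ x'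
    simp only [Category.assoc, Iso.hom_inv_id_assoc]
    refine congrArg (fun w => c ≫ w) (P.W_injective ?_)
    rw [hWi, hy]
    exact MonoidHom.ext hχ
  · show Flat (Spec.map (CommRingCat.ofHom φπ.toRingHom))
    exact (HasRingHomProperty.Spec_iff (P := @Flat)).2 hff.flat
  · exact ⟨(RingHom.FaithfullyFlat.iff_flat_and_comap_surjective.1 hff).2⟩
  · show IsAffineHom (Spec.map (CommRingCat.ofHom φπ.toRingHom))
    infer_instance
  · show LocallyOfFinitePresentation (Spec.map (CommRingCat.ofHom φπ.toRingHom))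
    rw [HasRingHomProperty.Spec_iff (P := @LocallyOfFinitePresentation)]
    haveI : IsNoetherianRing K.A := Algebra.FiniteType.isNoetherianRing k K.A
    letI : Algebra K.A P.A := φπ.toRingHom.toAlgebra
    haveI : IsScalarTower k K.A P.A := IsScalarTower.of_algHom φπ
    haveI : Algebra.FiniteType K.A P.A := Algebra.FiniteType.of_restrictScalars_finiteType k K.A P.A
    exact Algebra.FinitePresentation.of_finiteType.1 inferInstance
  · intro A C _ _ _ _ _ _ _ _ c hc
    have hcl : ∀ l, ∃ r : (E ⊗[k] C)ˣ,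
        bmap E ((Algebra.TensorProduct.includeRight : C →ₐ[A] C ⊗[A] C).restrictScalars k) r =
          (coord P eP c l : E ⊗[k] (C ⊗[A] C)) *
            bmap E ((Algebra.TensorProduct.includeLeft : C →ₐ[A] C ⊗[A] C).restrictScalars k) r :=
      fun l => exists_primitive_baseChange A C (coord P eP c l) (by
        have := congrArg (fun w => (coord P eP w l : E ⊗[k] (C ⊗[A] (C ⊗[A] C)))) hc
        simp only [coord_mul, coord_comp] at this
        exact this)
    choose u hu using hcl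
    obtain ⟨r, hr⟩ := exists_coord P eP heP u
    exact ⟨r, coord_ext P eP heP fun l => by rw [coord_comp, coord_mul, coord_comp, hr, hu]⟩
  · intro A _ _ _ x
    choose u hu using fun l => exists_unit_lift (E := E) A (coord P eP x l)
    obtain ⟨y, hy⟩ := exists_coord P eP heP u
    exact ⟨y, coord_ext P eP heP fun l => by rw [coord_comp, hy, hu]⟩
  · show K.W ((x ≫ π) ≫ 𝟙 _) = (P.W (x ≫ 𝟙 _)).comp incl
    rw [Category.comp_id, Category.comp_id, hWπ]

/-- A split form has such a resolution. -/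
theorem exists_res_of_form {M : Over (Spec (CommRingCat.of k))} [GrpObj M] {E : Type u} [Field E]
    [Algebra k E] [FiniteDimensional k E] [IsGalois k E] (F : Form k E) (j : F.sch ≅ M) [IsMonHom j.hom]
    [Group.FG F.N] : Nonempty (Res M) := by
  obtain ⟨_, _, _, _, _, _, _, _, _, _, _, _, _, D, _⟩ := exists_resCover F j
  exact ⟨D⟩

/-- Every isotrivial group of multiplicative type over a field has such a resolution. -/
theorem exists_res {M : Over (Spec (CommRingCat.of k))} [GrpObj M]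
    (hM : ∃ (Λ : Type) (_ : AddCommGroup Λ), AddGroup.FG Λ ∧
      TwC.Locally (Spec (CommRingCat.of k)) .finiteEtale
        (fun S' g => Nonempty (Grp.mk (Red.bc g M) ≅ Grp.mk (Red.DS S' Λ)))) :
    Nonempty (Res M) := by
  obtain ⟨E, _, _, F, j, hfd, hgal, hj, hfg⟩ := exists_form hM
  haveI := hfd; haveI := hgal; haveI := hj; haveI := hfg
  exact exists_res_of_form F j

end Groth.Misc15.MultH1
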