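import Mathlib

/-!
Permutation lattices of a finite group and their homomorphisms.
-/

set_option autoImplicit false
set_option linter.style.haveILetI false

universe u v

noncomputable section

namespace Groth.Misc15.MultH1

variable (G : Type u) [Group G] [Fintype G] (ι : Type u) [Fintype ι]

/-- the permutation lattice, written multiplicatively -/
abbrev PermLat : Type u := Multiplicative (G × ι → ℤ)

/-- the action on the permutation lattice -/
def permAct : G →* (PermLat G ι ≃* PermLat G ι) :=
  MonoidHom.mk' (fun g => AddEquiv.toMultiplicative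
    { toFun := fun q x => q (g⁻¹ * x.1, x.2)
      invFun := fun q x => q (g * x.1, x.2)
      left_inv := fun q => funext fun x => by simp
      right_inv := fun q => funext fun x => by simp
      map_add' := fun a b => rfl })
    fun a b => MulEquiv.ext fun q => congrArg Multiplicative.ofAdd (funext fun x => by
      show q.toAdd ((a * b)⁻¹ * x.1, x.2) = q.toAdd (b⁻¹ * (a⁻¹ * x.1), x.2)
      rw [mul_inv_rev, mul_assoc])

variable {G ι}

theorem permAct_apply (g : G) (q : PermLat G ι) (x : G × ι) :
    (permAct G ι g q).toAdd x = q.toAdd (g⁻¹ * x.1, x.2) := rfl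

/-- the basis vectors -/
def bv [DecidableEq G] [DecidableEq ι] (x : G × ι) : PermLat G ι := Multiplicative.ofAdd (Pi.single x 1)

theorem permAct_bv [DecidableEq G] [DecidableEq ι] (g : G) (x : G × ι) :
    permAct G ι g (bv x) = bv (g * x.1, x.2) := by
  refine Multiplicative.toAdd.injective (funext fun y => ?_)
  rw [permAct_apply]
  simp only [bv, toAdd_ofAdd, Pi.single_apply, Prod.ext_iff]
  congr 1
  rw [inv_mul_eq_iff_eq_mul]

variable {H : Type v} [CommGroup H]

/-- the homomorphism with given values on the basis -/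
def permHom (v : G × ι → H) : PermLat G ι →* H where
  toFun q := ∏ x, v x ^ q.toAdd x
  map_one' := by simp
  map_mul' a b := by simp [zpow_add, Finset.prod_mul_distrib]

theorem permHom_apply (v : G × ι → H) (q : PermLat G ι) : permHom v q = ∏ x, v x ^ q.toAdd x := rfl

theorem permHom_bv [DecidableEq G] [DecidableEq ι] (v : G × ι → H) (x : G × ι) : permHom v (bv x) = v x := by
  rw [permHom_apply, Finset.prod_eq_single x]
  · simp [bv]
  · intro y _ hy
    simp [bv, hy]
  · simp

theorem permHom_ext [DecidableEq G] [DecidableEq ι] {H' : Type v} [CommMonoid H'] {f f' : PermLat G ι →* H'}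
    (h : ∀ x, f (bv x) = f' (bv x)) : f = f' := by
  have key : f.toHomUnits = f'.toHomUnits := by
    suffices hh : ∀ (x : G × ι) (n : ℤ), f.toHomUnits (Multiplicative.ofAdd (Pi.single x n)) =
        f'.toHomUnits (Multiplicative.ofAdd (Pi.single x n)) from
      MonoidHom.toAdditiveRight.injective (AddMonoidHom.functions_ext' _ _ _ fun x => AddMonoidHom.ext fun n => congrArg Additive.ofMul (hh x n))
    intro x n
    rw [show (Pi.single x n : G × ι → ℤ) = n • Pi.single x 1 by rw [← Pi.single_smul]; simp,
      ofAdd_zsmul, map_zpow, map_zpow]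
    congr 1
    exact Units.ext (h x)
  exact MonoidHom.ext fun q => congrArg Units.val (DFunLike.congr_fun key q)

theorem permHom_equiv (v : G × ι → H) (α : G → (H →* H)) (hv : ∀ g x, α g (v x) = v (g * x.1, x.2))
    (g : G) (q : PermLat G ι) : α g (permHom v q) = permHom v (permAct G ι g q) := by
  rw [permHom_apply, map_prod, permHom_apply]
  refine Fintype.prod_equiv ((Equiv.mulLeft g).prodCongr (Equiv.refl ι)) _ _ fun x => ?_
  rw [map_zpow, hv, permAct_apply]
  simp [Prod.map]

theorem permLat_equiv :
    ∃ r : ℕ, Nonempty (PermLat G ι ≃* Multiplicative (Fin r → ℤ)) :=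
  ⟨_, ⟨AddEquiv.toMultiplicative
    (LinearEquiv.funCongrLeft ℤ ℤ (Fintype.equivFin (G × ι)).symm).toAddEquiv⟩⟩

/-- subgroups of the permutation lattice are lattices -/
theorem exists_equiv_subgroup (K : Subgroup (PermLat G ι)) :
    ∃ r : ℕ, Nonempty (K ≃* Multiplicative (Fin r → ℤ)) := by
  let S : Submodule ℤ (G × ι → ℤ) := AddSubgroup.toIntSubmodule (Subgroup.toAddSubgroup' K)
  refine ⟨Module.finrank ℤ S, ⟨?_⟩⟩
  refine MulEquiv.trans ?_ (AddEquiv.toMultiplicative (Module.finBasis ℤ S).equivFun.toAddEquiv)
  exact
    { toFun := fun q => Multiplicative.ofAdd ⟨q.1.toAdd, q.2⟩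
      invFun := fun q => ⟨Multiplicative.ofAdd q.toAdd.1, q.toAdd.2⟩
      left_inv := fun q => rfl
      right_inv := fun q => rfl
      map_mul' := fun a b => rfl }

end Groth.Misc15.MultH1
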