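import Groth.Agent.Misc15.MultH1.SplitPts
import Groth.Agent.Misc15.MultH1.Perm
import Groth.Agent.Misc15.RatTorus.Schemes
import Groth.Agent.TorusPts.Data
import Groth.Agent.TorusPts.Affine

/-!
A group of multiplicative type over a field as a form of a group algebra, and the forms of a permutation
lattice covering its characters.
-/

set_option autoImplicit false
set_option linter.style.haveILetI false

universe u

open CategoryTheory CategoryTheory.Limits MonoidalCategory CartesianMonoidalCategory AlgebraicGeometry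
  TensorProduct
open Groth.AlgGrp2 Groth.TorusPts Groth.Misc15.RatTorus

noncomputable section

namespace Groth.Misc15.MultH1

variable {k : Type u} [Field k]

theorem exists_galois_point {S' : Scheme.{u}} (f : S' ⟶ Spec (CommRingCat.of k)) [IsFinite f] [Etale f]
    [Surjective f] :
    ∃ (E : Type u) (_ : Field E) (_ : Algebra k E) (q : Spec (CommRingCat.of E) ⟶ S'),
      FiniteDimensional k E ∧ IsGalois k E ∧ q ≫ f = str k E := by
  haveI : IsAffine S' := isAffine_of_isAffineHom f
  obtain ⟨φ, hφ⟩ : ∃ φ : CommRingCat.of k ⟶ Γ(S', ⊤), Spec.map φ = S'.isoSpec.inv ≫ f :=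
    ⟨_, Spec.map_preimage _⟩
  letI := φ.hom.toAlgebra
  have hfinφ : φ.hom.Finite := by
    rw [← IsFinite.SpecMap_iff, hφ]
    infer_instance
  have hetφ : φ.hom.Etale := by
    rw [← HasRingHomProperty.Spec_iff (P := @Etale), hφ]
    infer_instance
  haveI : Module.Finite k Γ(S', ⊤) := hfinφ
  haveI : Algebra.Etale k Γ(S', ⊤) := hetφ
  haveI : Surjective (Spec.map φ) := by rw [hφ]; infer_instance
  obtain ⟨q, -⟩ := (Spec.map φ).surjective (⟨⊥, Ideal.isPrime_bot⟩ : PrimeSpectrum k)
  haveI := q.isPrime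
  haveI : IsArtinianRing Γ(S', ⊤) := IsArtinianRing.of_finite k _
  haveI : q.asIdeal.IsMaximal := IsArtinianRing.isMaximal_of_isPrime q.asIdeal
  let C := Γ(S', ⊤) ⧸ q.asIdeal
  letI : Field C := Ideal.Quotient.field q.asIdeal
  haveI : Algebra.FormallyUnramified k C :=
    .of_surjective (Ideal.Quotient.mkₐ k q.asIdeal) (Ideal.Quotient.mkₐ_surjective k _)
  haveI : Algebra.IsSeparable k C := Algebra.FormallyUnramified.isSeparable _ _
  obtain ⟨E, _, _, hfd, hgal, ⟨jE⟩⟩ := Groth.TorusPts.exists_galois_over (K := k) C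
  refine ⟨E, inferInstance, inferInstance,
    Spec.map (CommRingCat.ofHom ((jE : C →+* E).comp (Ideal.Quotient.mk q.asIdeal))) ≫ S'.isoSpec.inv,
    hfd, hgal, ?_⟩
  rw [Category.assoc, ← hφ, ← Spec.map_comp]
  show Spec.map _ = Spec.map _
  congr 1
  refine CommRingCat.hom_ext (RingHom.ext fun a => ?_)
  exact jE.commutes a

theorem exists_form {M : Over (Spec (CommRingCat.of k))} [GrpObj M]
    (hM : ∃ (Λ : Type) (_ : AddCommGroup Λ), AddGroup.FG Λ ∧
      TwC.Locally (Spec (CommRingCat.of k)) .finiteEtale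
        (fun S' g => Nonempty (Grp.mk (Red.bc g M) ≅ Grp.mk (Red.DS S' Λ)))) :
    ∃ (E : Type u) (_ : Field E) (_ : Algebra k E) (F : Form k E) (j : F.sch ≅ M),
      FiniteDimensional k E ∧ IsGalois k E ∧ IsMonHom j.hom ∧ Group.FG F.N := by
  obtain ⟨Λ, _, hfg, S', f, hfin, het, hsurj, hloc⟩ := hM
  obtain ⟨E, _, _, q, hfd, hgal, hq⟩ := exists_galois_point f
  obtain ⟨U, hU, -, ⟨e⟩⟩ := hloc (q.base (⟨⊥, Ideal.isPrime_bot⟩ : PrimeSpectrum E))
  have hrange : Set.range q.base ⊆ Set.range U.ι.base := by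
    rw [Scheme.Opens.range_ι]
    rintro _ ⟨x, rfl⟩
    rwa [Subsingleton.elim (α := PrimeSpectrum E) x ⟨⊥, Ideal.isPrime_bot⟩]
  let e' : Red.DS (U : Scheme.{u}) Λ ≅ Red.bc (U.ι ≫ f) M := (Grp.forget _).mapIso e.symm
  haveI : IsMonHom e'.hom := inferInstanceAs (IsMonHom e.inv.hom.hom)
  obtain ⟨i, hi⟩ := Groth.Reductive.FreeDiag.exists_trivialisation_comp M (IsOpenImmersion.lift U.ι q hrange)
    (U.ι ≫ f) e'
  have heq : IsOpenImmersion.lift U.ι q hrange ≫ U.ι ≫ f = str k E := by
    rw [IsOpenImmersion.lift_fac_assoc, hq]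
  revert i
  rw [heq]
  intro i hi
  haveI := hi
  have hsp : Red.IsSplitTorusWith Λ (Red.bc (str k E) M) := ⟨(Grp.mkIso' i).symm⟩
  obtain ⟨A, _, _, j, hj, ⟨eL⟩⟩ := exists_hopf_split M E hsp
  let N := Multiplicative (ULift.{u} Λ)
  let g0 : N ≃* Multiplicative Λ := AddEquiv.toMultiplicative AddEquiv.ulift
  let eN : E ⊗[k] A ≃ₐc[E] MonoidAlgebra E N :=
    eL.trans (BialgEquiv.ofBijective (MonoidAlgebra.mapDomainBialgHom E g0.symm.toMonoidHom) (by
      refine Function.bijective_iff_has_inverse.2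
        ⟨MonoidAlgebra.mapDomainBialgHom E g0.toMonoidHom, fun x => ?_, fun x => ?_⟩ <;>
      induction x using MonoidAlgebra.induction_on with
      | of m => simp
      | add p q hp hq => simp only [map_add, hp, hq]
      | smul r p hp => simp only [map_smul, hp]))
  let ρ : (E ≃ₐ[k] E) →* (N ≃* N) := MonoidHom.mk' (fun g =>
      { toFun := rhoHom eN g.toAlgHom
        invFun := rhoHom eN (g⁻¹ : E ≃ₐ[k] E).toAlgHom
        left_inv := fun m => by
          rw [← rhoHom_comp, show (g⁻¹ : E ≃ₐ[k] E).toAlgHom.comp g.toAlgHom = AlgHom.id k E from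
            AlgHom.ext fun x => g.symm_apply_apply x, rhoHom_id]
        right_inv := fun m => by
          rw [← rhoHom_comp, show g.toAlgHom.comp (g⁻¹ : E ≃ₐ[k] E).toAlgHom = AlgHom.id k E from
            AlgHom.ext fun x => g.apply_symm_apply x, rhoHom_id]
        map_mul' := map_mul _ })
    fun a b => MulEquiv.ext fun m => rhoHom_comp eN a.toAlgHom b.toAlgHom m
  let eA : E ⊗[k] A ≃ₐ[E] MonoidAlgebra E N := eN
  have hA : ∀ g a, galAlg ρ g (eN ((1 : E) ⊗ₜ a)) = eN ((1 : E) ⊗ₜ a) := by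
    intro g a
    have key : ∀ w, galAlg ρ g w =
        eA (Algebra.TensorProduct.map g.toAlgHom (AlgHom.id k A) (eA.symm w)) := by
      intro w
      induction w using MonoidAlgebra.induction_linear with
      | zero => simp
      | add p q hp hq => simp only [map_add, hp, hq]
      | single m c =>
        have h1 : eA.symm (MonoidAlgebra.single m c) = (c ⊗ₜ[k] (1 : A)) * chr eN m := by
          apply eA.injective
          rw [AlgEquiv.apply_symm_apply, map_mul,
            show eA (c ⊗ₜ[k] (1 : A)) = algebraMap E _ c from eA.commutes c,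
            show eA (chr eN m) = MonoidAlgebra.single m 1 from e_chr eN m]
          simp [MonoidAlgebra.coe_algebraMap]
        rw [h1, map_mul, Algebra.TensorProduct.map_tmul, rhoHom_spec, map_mul, map_one,
          show eA ((g.toAlgHom c) ⊗ₜ[k] (1 : A)) = algebraMap E _ (g.toAlgHom c) from eA.commutes _,
          show eA (chr eN (rhoHom eN g.toAlgHom m)) = MonoidAlgebra.single (rhoHom eN g.toAlgHom m) 1 from
            e_chr eN _, galAlg_single]
        simp [MonoidAlgebra.coe_algebraMap, ρ]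
    show galAlg ρ g (eA _) = eA _
    rw [key, AlgEquiv.symm_apply_apply, Algebra.TensorProduct.map_tmul, map_one]
    rfl
  haveI : AddGroup.FG Λ := hfg
  haveI : Group.FG (Multiplicative Λ) := AddGroup.fg_iff_mul_fg.1 inferInstance
  haveI : Group.FG N := Group.fg_of_surjective (f := g0.symm.toMonoidHom) g0.symm.surjective
  exact ⟨E, inferInstance, inferInstance, ⟨A, N, ρ, eN, hA⟩, j, hfd, hgal, hj, ‹_›⟩

/-- The permutation cover of the characters and its kernel, as forms. -/
theorem exists_cover {E : Type u} [Field E] [Algebra k E] [FiniteDimensional k E] [IsGalois k E]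
    (F : Form k E) [Group.FG F.N] :
    ∃ (ι : Type u) (_ : Fintype ι) (P K : Form k E) (eP : PermLat (E ≃ₐ[k] E) ι ≃* P.N) (p : P.N →* F.N)
      (incl : K.N →* P.N),
      (∀ g q, P.ρ g (eP q) = eP (permAct _ ι g q)) ∧
      (∀ g m, p (P.ρ g m) = F.ρ g (p m)) ∧ (∀ g m, incl (K.ρ g m) = P.ρ g (incl m)) ∧
      Function.Surjective p ∧ Function.Injective incl ∧ (∀ q, p q = 1 ↔ q ∈ Set.range incl) ∧
      ∃ r : ℕ, Nonempty (K.N ≃* Multiplicative (Fin r → ℤ)) := by
  classical
  obtain ⟨s, hs⟩ := (Group.fg_def.1 (inferInstance : Group.FG F.N))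
  let ι := ↥s
  let G := E ≃ₐ[k] E
  let v : G × ι → F.N := fun x => F.ρ x.1 x.2.1
  have hv : ∀ (g : G) (x : G × ι), (F.ρ g).toMonoidHom (v x) = v (g * x.1, x.2) := fun g x => by
    show F.ρ g (F.ρ x.1 x.2.1) = F.ρ (g * x.1) x.2.1
    rw [map_mul]; rfl
  let p : PermLat G ι →* F.N := permHom v
  have hp : ∀ g q, p (permAct G ι g q) = F.ρ g (p q) := fun g q =>
    (permHom_equiv v (fun g => (F.ρ g).toMonoidHom) hv g q).symm
  have hpsurj : Function.Surjective p := by
    rw [← MonoidHom.range_eq_top, eq_top_iff, ← hs, Subgroup.closure_le]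
    intro n hn
    exact ⟨bv (1, ⟨n, hn⟩), by
      rw [show p (bv (1, ⟨n, hn⟩)) = v (1, ⟨n, hn⟩) from permHom_bv _ _]
      show F.ρ 1 n = n
      rw [map_one]; rfl⟩
  let K := p.ker
  have hKmem : ∀ (g : G) (q : PermLat G ι), q ∈ K → permAct G ι g q ∈ K := fun g q hq => by
    rw [MonoidHom.mem_ker, hp, MonoidHom.mem_ker.1 hq, map_one]
  let ρK : G →* (K ≃* K) := MonoidHom.mk' (fun g =>
      { toFun := fun q => ⟨permAct G ι g q, hKmem g _ q.2⟩
        invFun := fun q => ⟨permAct G ι g⁻¹ q, hKmem g⁻¹ _ q.2⟩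
        left_inv := fun q => Subtype.ext (by
          show permAct G ι g⁻¹ (permAct G ι g q) = q
          rw [← MulAut.mul_apply, ← map_mul, inv_mul_cancel, map_one]; rfl)
        right_inv := fun q => Subtype.ext (by
          show permAct G ι g (permAct G ι g⁻¹ q) = q
          rw [← MulAut.mul_apply, ← map_mul, mul_inv_cancel, map_one]; rfl)
        map_mul' := fun a b => Subtype.ext (map_mul (permAct G ι g) a.1 b.1) })
    fun a b => MulEquiv.ext fun q => Subtype.ext (by
      show permAct G ι (a * b) q = permAct G ι a (permAct G ι b q)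
      rw [map_mul]; rfl)
  let SP := splitForm (k := k) (E := E) (permAct G ι)
  let SK := splitForm (k := k) (E := E) ρK
  exact ⟨ι, inferInstance, ⟨SP.A, PermLat G ι, permAct G ι, SP.e, SP.fixed⟩,
    ⟨SK.A, K, ρK, SK.e, SK.fixed⟩, MulEquiv.refl _, p, K.subtype, fun g q => rfl, hp, fun g m => rfl,
    hpsurj, K.subtype_injective, fun q => ⟨fun h => ⟨⟨q, h⟩, rfl⟩, fun ⟨w, hw⟩ => hw ▸ w.2⟩,
    exists_equiv_subgroup K⟩

end Groth.Misc15.MultH1
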