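import Groth.Agent.S18696
import Groth.Agent.S18697
import Groth.Agent.Misc15.MultH1.Main

/-!
Surjectivity on torsors over discrete valuation rings gives surjectivity over all local rings.
-/

set_option autoImplicit false
set_option linter.style.haveILetI false

universe u

open CategoryTheory AlgebraicGeometry Groth.AlgGrp2

namespace Groth.Misc15.MultH1

theorem surjective_local_of_dvr {k : Type u} [Field k] {M : Over (Spec (CommRingCat.of k))} [GrpObj M]
    (D : Res M)
    (h : ∀ (A : Type u) [CommRing A] [IsDomain A] [IsDiscreteValuationRing A] [Algebra k A],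
      Function.Surjective
        (NonAbH1.H1Sch.bcMap (Spec.map (CommRingCat.ofHom (IsLocalRing.residue A)))
          (Red.bc (str k A) M) Scheme.fppfPrecoverage))
    (A : Type u) [CommRing A] [IsLocalRing A] [Algebra k A] :
    Function.Surjective
      (NonAbH1.H1Sch.bcMap (Spec.map (CommRingCat.ofHom (IsLocalRing.residue A)))
        (Red.bc (str k A) M) Scheme.fppfPrecoverage) := by
  have key : ∀ (A : Type u) [CommRing A] [IsDomain A] [IsDiscreteValuationRing A] [Algebra k A]
      (u : Spec (CommRingCat.of (IsLocalRing.ResidueField A)) ⟶ D.T.left),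
      u ≫ D.T.hom = Spec.map (CommRingCat.ofHom ((IsLocalRing.residue A).comp (algebraMap k A))) →
      ∃ s : Spec (CommRingCat.of A) ⟶ D.T.left, s ≫ D.T.hom = Spec.map (CommRingCat.ofHom (algebraMap k A)) ∧
        Spec.map (CommRingCat.ofHom (IsLocalRing.residue A)) ≫ s = u := by
    intro A _ _ _ _ u hu
    obtain ⟨s, hs⟩ := torus_surjective D A (h A)
      (Over.homMk u (hu.trans (by rw [CommRingCat.ofHom_comp, Spec.map_comp]; rfl)))
    exact ⟨s.left, Over.w s, congrArg CommaMorphism.left hs⟩
  have hret := Groth.Agent.S18696.result k D.T D.torus key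
  refine h1_surjective D A fun u => ?_
  obtain ⟨s, hs, hsu⟩ := Groth.Agent.S18697.result k D.T D.torus hret A u.left
    ((Over.w u).trans (by rw [CommRingCat.ofHom_comp, Spec.map_comp]; rfl))
  exact ⟨Over.homMk s hs, Over.OverMorphism.ext hsu⟩

end Groth.Misc15.MultH1
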