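import Mathlib

/-!
Unit cocycles on faithfully flat algebras over semilocal rings are coboundaries; units of algebras finite
over local rings lift.
-/

set_option autoImplicit false
set_option linter.style.haveILetI false

universe u

open TensorProduct

noncomputable section

namespace Groth.Misc15.MultH1

section Primitive

variable (B B' : Type u) [CommRing B] [CommRing B'] [Algebra B B']

/-- first and second of three factors -/
def j12 : B' ⊗[B] B' →ₐ[B] B' ⊗[B] (B' ⊗[B] B') :=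
  Algebra.TensorProduct.map (AlgHom.id B B') Algebra.TensorProduct.includeLeft

/-- first and third of three factors -/
def j13 : B' ⊗[B] B' →ₐ[B] B' ⊗[B] (B' ⊗[B] B') :=
  Algebra.TensorProduct.map (AlgHom.id B B') Algebra.TensorProduct.includeRight

/-- second and third of three factors -/
def j23 : B' ⊗[B] B' →ₐ[B] B' ⊗[B] (B' ⊗[B] B') := Algebra.TensorProduct.includeRight

variable {B B'}

/-- A unit cocycle on a faithfully flat algebra over a semilocal ring is a coboundary. -/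
theorem exists_primitive [Module.FaithfullyFlat B B'] [Finite (MaximalSpectrum B)]
    (c : (B' ⊗[B] B')ˣ)
    (hc : j13 B B' c = j23 B B' c * j12 B B' c) :
    ∃ r : B'ˣ, (1 : B') ⊗ₜ[B] (r : B') = (c : B' ⊗[B] B') * ((r : B') ⊗ₜ[B] (1 : B')) := by
  let δ : B' →ₗ[B] B' ⊗[B] B' :=
    (Algebra.TensorProduct.includeRight : B' →ₐ[B] B' ⊗[B] B').toLinearMap -
      (LinearMap.mulLeft B (c : B' ⊗[B] B')).comp
        (Algebra.TensorProduct.includeLeft : B' →ₐ[B] B' ⊗[B] B').toLinearMap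
  let L := LinearMap.ker δ
  have hΔ : ∀ z, δ.lTensor B' z = j13 B B' z - j23 B B' c * j12 B B' z := by
    intro z
    induction z using TensorProduct.induction_on with
    | zero => simp
    | add p q hp hq => simp only [map_add, mul_add, hp, hq]; abel
    | tmul a x => simp [δ, j12, j13, j23, TensorProduct.tmul_sub]
  have hex := Module.Flat.lTensor_exact B' (LinearMap.exact_subtype_ker_map δ)
  have hinj := Module.Flat.lTensor_preserves_injective_linearMap (M := B') L.subtype L.injective_subtype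
  obtain ⟨ξ, hξ⟩ : ∃ ξ : B' ⊗[B] L, L.subtype.lTensor B' ξ = (c : B' ⊗[B] B') :=
    (hex (c : B' ⊗[B] B')).1 (by rw [hΔ, hc, sub_self])
  let mu : B' ⊗[B] B' →ₐ[B] B' := Algebra.TensorProduct.lmul' B
  have hmu : IsUnit (mu c) := c.isUnit.map mu
  have hlin : ∀ (a : B') (w : B' ⊗[B] L),
      L.subtype.lTensor B' (a • w) = (a ⊗ₜ[B] (1 : B')) * L.subtype.lTensor B' w := by
    intro a w
    induction w using TensorProduct.induction_on with
    | zero => simp
    | add p q hp hq => simp only [map_add, smul_add, mul_add, hp, hq]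
    | tmul b l => simp [TensorProduct.smul_tmul']
  -- the base change of the kernel is free of rank one
  let mm : B' ⊗[B] (B' ⊗[B] B') →ₐ[B] B' ⊗[B] B' :=
    Algebra.TensorProduct.productMap Algebra.TensorProduct.includeLeft (AlgHom.id B _)
  have hgen : Function.Bijective fun a : B' => a • ξ := by
    refine ⟨fun a b hab => ?_, fun w => ?_⟩
    · have h1 := congrArg (L.subtype.lTensor B') hab
      simp only [hlin, hξ] at h1
      have h2 := congrArg mu (c.mul_left_inj.1 h1)
      simpa [mu] using h2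
    · obtain ⟨z, h2⟩ : ∃ z : B' ⊗[B] B', L.subtype.lTensor B' w = z * c :=
        ⟨L.subtype.lTensor B' w * (↑c⁻¹ : B' ⊗[B] B'), by simp⟩
      have hz : j13 B B' z = j12 B B' z := by
        have h1 : δ.lTensor B' (L.subtype.lTensor B' w) = 0 := (hex _).2 ⟨w, rfl⟩
        rw [hΔ, sub_eq_zero] at h1
        rw [h2, map_mul, map_mul, hc, ← mul_assoc (j23 B B' c),
          mul_comm (j23 B B' c) (j12 B B' z), mul_assoc] at h1
        exact ((c.isUnit.map (j23 B B')).mul (c.isUnit.map (j12 B B'))).mul_left_inj.1 h1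
      have h13 : ∀ v, mm (j13 B B' v) = v := by
        intro v
        induction v using TensorProduct.induction_on with
        | zero => simp
        | add p q hp hq => simp only [map_add, hp, hq]
        | tmul a x => simp [mm, j13]
      have h12 : ∀ v, mm (j12 B B' v) = mu v ⊗ₜ 1 := by
        intro v
        induction v using TensorProduct.induction_on with
        | zero => simp
        | add p q hp hq => simp only [map_add, hp, hq, TensorProduct.add_tmul]
        | tmul a x => simp [mm, j12, mu]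
      refine ⟨mu z, hinj ?_⟩
      rw [hlin, hξ, ← h12 z, ← hz, h13, h2]
  let φ : B' ≃ₗ[B'] B' ⊗[B] L := LinearEquiv.ofBijective (LinearMap.toSpanSingleton B' _ ξ) hgen
  haveI : Module.Finite B' (B' ⊗[B] L) := Module.Finite.equiv φ
  haveI : Module.Finite B L := Module.Finite.of_finite_tensorProduct_of_faithfullyFlat B'
  haveI : Module.Flat B' (B' ⊗[B] L) := Module.Flat.of_linearEquiv φ.symm
  haveI : Module.Flat B L := Module.Flat.of_flat_tensorProduct B L B'
  have hrk : ∀ P : MaximalSpectrum B, Module.finrank (B ⧸ P.1) ((B ⧸ P.1) ⊗[B] L) = 1 := fun P => by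
    obtain ⟨q, hq⟩ := PrimeSpectrum.comap_surjective_of_faithfullyFlat (B := B') ⟨P.1, P.2.isPrime⟩
    obtain ⟨Q, hQ, hqQ⟩ := Ideal.exists_le_maximal q.asIdeal q.2.ne_top
    have hPQ : P.1 = Q.comap (algebraMap B B') := P.2.eq_of_le (Ideal.comap_ne_top _ hQ.ne_top)
      (le_trans (le_of_eq (congrArg PrimeSpectrum.asIdeal hq).symm) (Ideal.comap_mono hqQ))
    letI := Ideal.Quotient.field P.1
    letI := Ideal.Quotient.field Q
    haveI : Q.LiesOver P.1 := ⟨hPQ⟩
    rw [← Module.finrank_baseChange (R := B' ⧸ Q),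
      (AlgebraTensorModule.cancelBaseChange B (B ⧸ P.1) (B' ⧸ Q) (B' ⧸ Q) L).finrank_eq,
      ← (AlgebraTensorModule.cancelBaseChange B B' (B' ⧸ Q) (B' ⧸ Q) L).finrank_eq,
      (AlgebraTensorModule.congr (LinearEquiv.refl (B' ⧸ Q) (B' ⧸ Q)) φ.symm).finrank_eq,
      (AlgebraTensorModule.rid B' (B' ⧸ Q) (B' ⧸ Q)).finrank_eq, Module.finrank_self]
  obtain ⟨b⟩ := Module.nonempty_basis_of_flat_of_finrank_eq B L 1 hrk
  obtain ⟨a, ha⟩ : ∃ a : B', a • ((1 : B') ⊗ₜ[B] b 0) = ξ := by
    suffices ∀ w : B' ⊗[B] L, ∃ a : B', a • ((1 : B') ⊗ₜ[B] b 0) = w from this ξ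
    intro w
    induction w using TensorProduct.induction_on with
    | zero => exact ⟨0, zero_smul _ _⟩
    | add p q hp hq =>
      obtain ⟨a, rfl⟩ := hp
      obtain ⟨a', rfl⟩ := hq
      exact ⟨a + a', add_smul _ _ _⟩
    | tmul x l =>
      refine ⟨b.repr l 0 • x, ?_⟩
      conv_rhs => rw [← b.sum_repr l, Fin.sum_univ_one]
      rw [TensorProduct.smul_tmul', TensorProduct.tmul_smul, TensorProduct.smul_tmul', smul_eq_mul, mul_one]
  have he : IsUnit ((b 0 : L) : B') := by
    have h1 := congrArg (fun w => mu (L.subtype.lTensor B' w)) ha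
    simp only [hlin, hξ] at h1
    simp only [map_mul, LinearMap.lTensor_tmul, mu, Algebra.TensorProduct.lmul'_apply_tmul] at h1
    rw [mul_one, one_mul] at h1
    exact isUnit_of_mul_isUnit_right (h1 ▸ hmu : IsUnit (a * ((b 0 : L) : B')))
  refine ⟨he.unit, ?_⟩
  rw [IsUnit.unit_spec]
  refine sub_eq_zero.1 ?_
  exact LinearMap.mem_ker.1 (b 0 : L).2

end Primitive

section BaseChange

variable {k : Type u} [Field k] (E : Type u) [Field E] [Algebra k E]

/-- the base change of an algebra map -/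
abbrev bmap {X Y : Type u} [CommRing X] [CommRing Y] [Algebra k X] [Algebra k Y] (f : X →ₐ[k] Y) :
    E ⊗[k] X →ₐ[E] E ⊗[k] Y :=
  Algebra.TensorProduct.map (AlgHom.id E E) f

variable {E}

/-- An algebra finite over a semilocal ring is semilocal. -/
theorem finite_maximalSpectrum (A B : Type u) [CommRing A] [CommRing B] [Algebra A B]
    [Module.Finite A B] [Finite (MaximalSpectrum A)] : Finite (MaximalSpectrum B) := by
  haveI : Algebra.IsIntegral A B := Algebra.IsIntegral.of_finite A B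
  let f : MaximalSpectrum B → MaximalSpectrum A := fun Q =>
    haveI := Q.2
    ⟨Q.1.comap (algebraMap A B), Ideal.isMaximal_comap_of_isIntegral_of_isMaximal Q.1⟩
  suffices ∀ P, Finite {Q // f Q = P} from Finite.of_equiv _ (Equiv.sigmaFiberEquiv f)
  intro P
  haveI := P.2
  have hle : {Q | f Q = P} ⊆ (fun Q : MaximalSpectrum B => Q.1) ⁻¹' P.1.primesOver B := by
    intro Q hQ
    exact ⟨Q.2.isPrime, ⟨(congrArg MaximalSpectrum.asIdeal hQ).symm⟩⟩
  exact ((Algebra.QuasiFinite.finite_primesOver P.1).preimage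
    (fun x _ y _ h => MaximalSpectrum.ext h)).subset hle |>.to_subtype

variable [FiniteDimensional k E] (A C : Type u) [CommRing A] [Algebra k A] [CommRing C] [Algebra k C]
  [Algebra A C] [IsScalarTower k A C]

/-- The cocycle lemma after a finite base change. -/
theorem exists_primitive_baseChange [Module.FaithfullyFlat A C] [Finite (MaximalSpectrum A)]
    (c : (E ⊗[k] (C ⊗[A] C))ˣ)
    (hc : bmap E ((Algebra.TensorProduct.map (AlgHom.id A C)
          (Algebra.TensorProduct.includeRight : C →ₐ[A] C ⊗[A] C)).restrictScalars k) c =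
      bmap E ((Algebra.TensorProduct.includeRight :
          C ⊗[A] C →ₐ[A] C ⊗[A] (C ⊗[A] C)).restrictScalars k) c *
      bmap E ((Algebra.TensorProduct.map (AlgHom.id A C)
          (Algebra.TensorProduct.includeLeft : C →ₐ[A] C ⊗[A] C)).restrictScalars k) c) :
    ∃ r : (E ⊗[k] C)ˣ,
      bmap E ((Algebra.TensorProduct.includeRight : C →ₐ[A] C ⊗[A] C).restrictScalars k) r =
        (c : E ⊗[k] (C ⊗[A] C)) *
          bmap E ((Algebra.TensorProduct.includeLeft : C →ₐ[A] C ⊗[A] C).restrictScalars k) r := by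
  let β : E ⊗[k] A →ₐ[E] E ⊗[k] C := bmap E (IsScalarTower.toAlgHom k A C)
  letI : Algebra (E ⊗[k] A) (E ⊗[k] C) := β.toRingHom.toAlgebra
  haveI : IsScalarTower E (E ⊗[k] A) (E ⊗[k] C) := IsScalarTower.of_algHom β
  letI : Algebra A (E ⊗[k] A) := Algebra.TensorProduct.rightAlgebra
  letI : Algebra A (E ⊗[k] C) :=
    ((algebraMap (E ⊗[k] A) (E ⊗[k] C)).comp (algebraMap A (E ⊗[k] A))).toAlgebra
  haveI : IsScalarTower A (E ⊗[k] A) (E ⊗[k] C) := IsScalarTower.of_algebraMap_eq fun _ => rfl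
  haveI : Module.Finite A (E ⊗[k] A) :=
    Module.Finite.equiv (Algebra.TensorProduct.commRight k A E).toLinearEquiv
  haveI := finite_maximalSpectrum A (E ⊗[k] A)
  haveI : Module.FaithfullyFlat (E ⊗[k] A) (E ⊗[k] C) := by
    let f := IsScalarTower.toAlgHom k A C
    letI : Algebra C (E ⊗[k] C) := Algebra.TensorProduct.rightAlgebra
    haveI : IsScalarTower A C (E ⊗[k] C) := IsScalarTower.of_algebraMap_eq fun a => by
      show β ((1 : E) ⊗ₜ[k] a) = (1 : E) ⊗ₜ[k] algebraMap A C a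
      simp [β]
    let e : E ⊗[k] C ≃ₐ[E ⊗[k] A] (E ⊗[k] A) ⊗[A] C :=
      { __ := (Algebra.IsPushout.cancelBaseChangeAlg k E A (E ⊗[k] A) C).symm,
        commutes' := fun x =>
          congr($(Algebra.IsPushout.cancelBaseChange_symm_comp_lTensor k A C E) x) }
    exact Module.FaithfullyFlat.of_linearEquiv _ _ e.toLinearEquiv
  haveI : IsScalarTower k (E ⊗[k] A) (E ⊗[k] C) := IsScalarTower.of_algHom (β.restrictScalars k)
  let i1 : C →ₐ[A] C ⊗[A] C := Algebra.TensorProduct.includeLeft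
  let i2 : C →ₐ[A] C ⊗[A] C := Algebra.TensorProduct.includeRight
  letI : Algebra (E ⊗[k] A) (E ⊗[k] (C ⊗[A] C)) :=
    ((bmap E (i1.restrictScalars k)).comp β).toRingHom.toAlgebra
  let f1 : E ⊗[k] C →ₐ[E ⊗[k] A] E ⊗[k] (C ⊗[A] C) :=
    AlgHom.mk (bmap E (i1.restrictScalars k)).toRingHom fun _ => rfl
  let f2 : E ⊗[k] C →ₐ[E ⊗[k] A] E ⊗[k] (C ⊗[A] C) :=
    AlgHom.mk (bmap E (i2.restrictScalars k)).toRingHom fun x => by
      show bmap E (i2.restrictScalars k) (β x) = bmap E (i1.restrictScalars k) (β x)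
      induction x using TensorProduct.induction_on with
      | zero => simp only [map_zero]
      | add p q hp hq => simp only [map_add, hp, hq]
      | tmul e a => simp [β, i1, i2, Algebra.TensorProduct.tmul_one_eq_one_tmul]
  let θ : (E ⊗[k] C) ⊗[E ⊗[k] A] (E ⊗[k] C) →ₐ[E ⊗[k] A] E ⊗[k] (C ⊗[A] C) :=
    Algebra.TensorProduct.productMap f1 f2
  let ι : C →ₐ[A] E ⊗[k] C :=
    AlgHom.mk (Algebra.TensorProduct.includeRight : C →ₐ[k] E ⊗[k] C).toRingHom fun a => by
      show (1 : E) ⊗ₜ[k] algebraMap A C a = β ((1 : E) ⊗ₜ[k] a)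
      simp [β]
  let ψc : C ⊗[A] C →ₐ[A] ((E ⊗[k] C) ⊗[E ⊗[k] A] (E ⊗[k] C)) :=
    (Algebra.TensorProduct.lift
      ((Algebra.TensorProduct.includeLeft : E ⊗[k] C →ₐ[E ⊗[k] A] ((E ⊗[k] C) ⊗[E ⊗[k] A] (E ⊗[k] C))).restrictScalars A |>.comp ι)
      ((Algebra.TensorProduct.includeRight : E ⊗[k] C →ₐ[E ⊗[k] A] ((E ⊗[k] C) ⊗[E ⊗[k] A] (E ⊗[k] C))).restrictScalars A |>.comp ι)
      fun _ _ => .all _ _)
  let ψd : C ⊗[A] (C ⊗[A] C) →ₐ[A] ((E ⊗[k] C) ⊗[E ⊗[k] A] ((E ⊗[k] C) ⊗[E ⊗[k] A] (E ⊗[k] C))) :=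
    Algebra.TensorProduct.lift
      ((Algebra.TensorProduct.includeLeft : E ⊗[k] C →ₐ[E ⊗[k] A] ((E ⊗[k] C) ⊗[E ⊗[k] A] ((E ⊗[k] C) ⊗[E ⊗[k] A] (E ⊗[k] C)))).restrictScalars A |>.comp ι)
      ((Algebra.TensorProduct.includeRight : ((E ⊗[k] C) ⊗[E ⊗[k] A] (E ⊗[k] C)) →ₐ[E ⊗[k] A] ((E ⊗[k] C) ⊗[E ⊗[k] A] ((E ⊗[k] C) ⊗[E ⊗[k] A] (E ⊗[k] C)))).restrictScalars A |>.comp ψc)
      fun x y => Commute.all (S := (E ⊗[k] C) ⊗[E ⊗[k] A] ((E ⊗[k] C) ⊗[E ⊗[k] A] (E ⊗[k] C))) _ _
  haveI : IsScalarTower k A (E ⊗[k] C) := IsScalarTower.of_algebraMap_eq fun r => by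
    rw [← ι.commutes]
    exact ((Algebra.TensorProduct.includeRight : C →ₐ[k] E ⊗[k] C).commutes r).symm.trans
      (congrArg ((1 : E) ⊗ₜ[k] ·) (IsScalarTower.algebraMap_apply k A C r))
  haveI : IsScalarTower k A ((E ⊗[k] C) ⊗[E ⊗[k] A] (E ⊗[k] C)) := ⟨fun r a x => by
    induction x using TensorProduct.induction_on with
    | zero => simp
    | add p q hp hq => simp only [smul_add, hp, hq]
    | tmul u v => simp [TensorProduct.smul_tmul', smul_assoc]⟩
  haveI : IsScalarTower k A ((E ⊗[k] C) ⊗[E ⊗[k] A] ((E ⊗[k] C) ⊗[E ⊗[k] A] (E ⊗[k] C))) := ⟨fun r a x => by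
    induction x using TensorProduct.induction_on with
    | zero => simp
    | add p q hp hq => simp only [smul_add, hp, hq]
    | tmul u v => simp [TensorProduct.smul_tmul', smul_assoc]⟩
  let ψ2 : E ⊗[k] (C ⊗[A] C) →ₐ[k] ((E ⊗[k] C) ⊗[E ⊗[k] A] (E ⊗[k] C)) :=
    Algebra.TensorProduct.lift
      (((IsScalarTower.toAlgHom k (E ⊗[k] A) ((E ⊗[k] C) ⊗[E ⊗[k] A] (E ⊗[k] C)))).comp Algebra.TensorProduct.includeLeft)
      (ψc.restrictScalars k) fun _ _ => .all _ _
  let ψ3 : E ⊗[k] (C ⊗[A] (C ⊗[A] C)) →ₐ[k] ((E ⊗[k] C) ⊗[E ⊗[k] A] ((E ⊗[k] C) ⊗[E ⊗[k] A] (E ⊗[k] C))) :=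
    Algebra.TensorProduct.lift
      (((IsScalarTower.toAlgHom k (E ⊗[k] A) ((E ⊗[k] C) ⊗[E ⊗[k] A] ((E ⊗[k] C) ⊗[E ⊗[k] A] (E ⊗[k] C))))).comp Algebra.TensorProduct.includeLeft)
      (ψd.restrictScalars k) fun _ _ => Commute.all (S := (E ⊗[k] C) ⊗[E ⊗[k] A] ((E ⊗[k] C) ⊗[E ⊗[k] A] (E ⊗[k] C))) _ _
  have hθψ : ∀ x, θ (ψ2 x) = x := by
    intro x
    induction x using TensorProduct.induction_on with
    | zero => simp only [map_zero]
    | add p q hp hq => simp only [map_add, hp, hq]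
    | tmul e t =>
      induction t using TensorProduct.induction_on with
      | zero => simp only [TensorProduct.tmul_zero, map_zero]
      | add p q hp hq => simp only [TensorProduct.tmul_add, map_add, hp, hq]
      | tmul a b => simp [θ, ψ2, ψc, f1, f2, ι, β, i1, i2, RingHom.algebraMap_toAlgebra]
  let d12 : C ⊗[A] C →ₐ[A] C ⊗[A] (C ⊗[A] C) := Algebra.TensorProduct.map (AlgHom.id A C) i1
  let d13 : C ⊗[A] C →ₐ[A] C ⊗[A] (C ⊗[A] C) := Algebra.TensorProduct.map (AlgHom.id A C) i2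
  let d23 : C ⊗[A] C →ₐ[A] C ⊗[A] (C ⊗[A] C) := Algebra.TensorProduct.includeRight
  have h12 : ∀ x, j12 (E ⊗[k] A) (E ⊗[k] C) (ψ2 x) = ψ3 (bmap E (d12.restrictScalars k) x) := by
    intro x
    induction x using TensorProduct.induction_on with
    | zero => simp only [map_zero]
    | add p q hp hq => simp only [map_add, hp, hq]
    | tmul e t =>
      induction t using TensorProduct.induction_on with
      | zero => simp only [TensorProduct.tmul_zero, map_zero]
      | add p q hp hq => simp only [TensorProduct.tmul_add, map_add, hp, hq]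
      | tmul a b => simp [j12, ψ2, ψ3, ψc, ψd, d12, i1, ι]; rfl
  have h13 : ∀ x, j13 (E ⊗[k] A) (E ⊗[k] C) (ψ2 x) = ψ3 (bmap E (d13.restrictScalars k) x) := by
    intro x
    induction x using TensorProduct.induction_on with
    | zero => simp only [map_zero]
    | add p q hp hq => simp only [map_add, hp, hq]
    | tmul e t =>
      induction t using TensorProduct.induction_on with
      | zero => simp only [TensorProduct.tmul_zero, map_zero]
      | add p q hp hq => simp only [TensorProduct.tmul_add, map_add, hp, hq]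
      | tmul a b => simp [j13, ψ2, ψ3, ψc, ψd, d13, i2, ι]; rfl
  have h23 : ∀ x, j23 (E ⊗[k] A) (E ⊗[k] C) (ψ2 x) = ψ3 (bmap E (d23.restrictScalars k) x) := by
    intro x
    induction x using TensorProduct.induction_on with
    | zero => simp only [map_zero]
    | add p q hp hq => simp only [map_add, hp, hq]
    | tmul e t =>
      induction t using TensorProduct.induction_on with
      | zero => simp only [TensorProduct.tmul_zero, map_zero]
      | add p q hp hq => simp only [TensorProduct.tmul_add, map_add, hp, hq]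
      | tmul a b =>
        simp only [j23, ψ2, ψ3, ψd, d23, bmap, Algebra.TensorProduct.map_tmul,
          Algebra.TensorProduct.lift_tmul, map_mul]
        congr 1
        · exact (Algebra.TensorProduct.includeRight : ((E ⊗[k] C) ⊗[E ⊗[k] A] (E ⊗[k] C)) →ₐ[E ⊗[k] A] ((E ⊗[k] C) ⊗[E ⊗[k] A] ((E ⊗[k] C) ⊗[E ⊗[k] A] (E ⊗[k] C)))).commutes _
        · simp [ψc, ι]; rfl
  obtain ⟨r, hr⟩ := exists_primitive (B := E ⊗[k] A) (B' := E ⊗[k] C)
    (Units.map (ψ2 : E ⊗[k] (C ⊗[A] C) →* ((E ⊗[k] C) ⊗[E ⊗[k] A] (E ⊗[k] C))) c) (by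
      show j13 _ _ (ψ2 c) = j23 _ _ (ψ2 c) * j12 _ _ (ψ2 c)
      rw [h12, h13, h23, ← map_mul, hc])
  refine ⟨r, ?_⟩
  have h1 := congrArg θ hr
  rw [map_mul] at h1
  change θ _ = θ (ψ2 c) * _ at h1
  rw [hθψ] at h1
  simpa [θ, f1, f2] using h1

/-- Units lift along the reduction of a finite base change of a local ring. -/
theorem exists_unit_lift [IsLocalRing A] (x : (E ⊗[k] IsLocalRing.ResidueField A)ˣ) :
    ∃ y : (E ⊗[k] A)ˣ, bmap E (IsScalarTower.toAlgHom k A (IsLocalRing.ResidueField A)) y =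
      (x : E ⊗[k] IsLocalRing.ResidueField A) := by
  letI : Algebra A (E ⊗[k] A) := Algebra.TensorProduct.rightAlgebra
  haveI : Module.Finite A (E ⊗[k] A) :=
    Module.Finite.equiv (Algebra.TensorProduct.commRight k A E).toLinearEquiv
  haveI : Algebra.IsIntegral A (E ⊗[k] A) := Algebra.IsIntegral.of_finite A _
  let p := IsScalarTower.toAlgHom k A (IsLocalRing.ResidueField A)
  have hp : Function.Surjective p := IsLocalRing.residue_surjective
  let π := bmap E p
  have hπ : Function.Surjective π := LinearMap.lTensor_surjective E (g := p.toLinearMap) hp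
  obtain ⟨y, hy⟩ := hπ x
  have hu : IsUnit y := by
    by_contra h
    obtain ⟨Q, hQ, hyQ⟩ := exists_max_ideal_of_mem_nonunits h
    haveI := hQ
    have hle : RingHom.ker π ≤ Q := by
      show RingHom.ker (Algebra.TensorProduct.map (AlgHom.id k E) p) ≤ Q
      rw [Algebra.TensorProduct.lTensor_ker p hp, Ideal.map_le_iff_le_comap]
      have hm : Q.comap (algebraMap A (E ⊗[k] A)) = IsLocalRing.maximalIdeal A :=
        IsLocalRing.eq_maximalIdeal (Ideal.isMaximal_comap_of_isIntegral_of_isMaximal Q)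
      intro a ha
      have : a ∈ IsLocalRing.maximalIdeal A := IsLocalRing.residue_eq_zero_iff a |>.1 ha
      rw [← hm] at this
      exact this
    obtain ⟨y', hy'⟩ := hπ (↑x⁻¹ : E ⊗[k] IsLocalRing.ResidueField A)
    have h1 : y * y' - 1 ∈ Q := hle (by rw [RingHom.mem_ker, map_sub, map_mul, hy, hy', Units.mul_inv, map_one, sub_self])
    exact hQ.ne_top ((Ideal.eq_top_iff_one Q).2 (by simpa using Q.sub_mem (Q.mul_mem_right y' hyQ) h1))
  exact ⟨hu.unit, hy⟩

end BaseChange

end Groth.Misc15.MultH1
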