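import Groth.Agent.Misc15.RatTorus.Descent
import Groth.Agent.TorusPts.Chars
import Groth.Agent.Misc15.MultH1.Ring
import Groth.Agent.AlgGrp2.AffinePts

/-!
Points of a split form of a group algebra as Galois equivariant characters.
-/

set_option autoImplicit false
set_option linter.style.haveILetI false

universe u

open CategoryTheory MonoidalCategory CartesianMonoidalCategory MonObj AlgebraicGeometry TensorProduct
open Groth.AlgGrp2 Groth.TorusPts Groth.Misc15.RatTorus

noncomputable section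

namespace Groth.Misc15.MultH1

variable {k E : Type u} [Field k] [Field E] [Algebra k E]

/-- the Galois action on the left factor -/
abbrev galS (g : E ≃ₐ[k] E) (S : Type u) [CommRing S] [Algebra k S] : E ⊗[k] S →ₐ[k] E ⊗[k] S :=
  Algebra.TensorProduct.map g.toAlgHom (AlgHom.id k S)

theorem galS_bmap (g : E ≃ₐ[k] E) {S S' : Type u} [CommRing S] [Algebra k S] [CommRing S'] [Algebra k S']
    (f : S →ₐ[k] S') (z : E ⊗[k] S) : galS g S' (bmap E f z) = bmap E f (galS g S z) := by
  induction z using TensorProduct.induction_on with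
  | zero => simp
  | add a b ha hb => simp only [map_add, ha, hb]
  | tmul c s => simp

theorem exists_of_galS_fixed [FiniteDimensional k E] [IsGalois k E] {S : Type u} [CommRing S]
    [Algebra k S] (z : E ⊗[k] S) (hz : ∀ g, galS g S z = z) : ∃ s, z = (1 : E) ⊗ₜ[k] s := by
  refine Groth.GaloisBrauer.exists_tmul_of_fixed z fun g => Eq.trans ?_ (hz g)
  clear hz
  induction z using TensorProduct.induction_on with
  | zero => simp
  | add a b ha hb => simp only [smul_add, map_add, ha, hb]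
  | tmul c s => simp [TensorProduct.smul_tmul']

/-- A split form of a group algebra, with the Galois action on the characters. -/
structure Form (k E : Type u) [Field k] [Field E] [Algebra k E] where
  /-- the Hopf algebra -/
  A : Type u
  [ring : CommRing A]
  [hopf : HopfAlgebra k A]
  /-- the characters -/
  N : Type u
  [grp : CommGroup N]
  /-- the action -/
  ρ : (E ≃ₐ[k] E) →* (N ≃* N)
  /-- the splitting -/
  e : E ⊗[k] A ≃ₐc[E] MonoidAlgebra E N
  fixed : ∀ g a, galAlg ρ g (e ((1 : E) ⊗ₜ a)) = e ((1 : E) ⊗ₜ a)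

attribute [instance] Form.ring Form.hopf Form.grp

namespace Form

variable (F : Form k E) {S S' : Type u} [CommRing S] [Algebra k S] [CommRing S'] [Algebra k S']

theorem galS_chr (g : E ≃ₐ[k] E) (m : F.N) : galS g F.A (chr F.e m) = chr F.e (F.ρ g m) := by
  have key : ∀ w, F.e (galS g F.A w) = galAlg F.ρ g (F.e w) := by
    intro w
    induction w using TensorProduct.induction_on with
    | zero => simp
    | add a b ha hb => simp only [map_add, ha, hb]
    | tmul c a =>
      rw [Algebra.TensorProduct.map_tmul, AlgHom.id_apply]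
      have h1 : ∀ d : E, F.e (d ⊗ₜ[k] a) = d • F.e ((1 : E) ⊗ₜ[k] a) := fun d => by
        rw [← map_smul, TensorProduct.smul_tmul', smul_eq_mul, _root_.mul_one]
      rw [h1, h1 c, Algebra.smul_def, Algebra.smul_def, map_mul, F.fixed]
      congr 1
      simp [MonoidAlgebra.coe_algebraMap, galAlg_single]
  apply (F.e : E ⊗[k] F.A ≃ₐ[E] MonoidAlgebra E F.N).injective
  show F.e _ = F.e _
  rw [key, e_chr, e_chr, galAlg_single, map_one]

/-- values of a point on the characters -/
def V (φ : F.A →ₐ[k] S) : F.N →* E ⊗[k] S where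
  toFun m := bmap E φ (chr F.e m)
  map_one' := by rw [chr_one, map_one]
  map_mul' a b := by rw [chr_mul, map_mul]

theorem V_apply (φ : F.A →ₐ[k] S) (m : F.N) : F.V φ m = bmap E φ (chr F.e m) := rfl

theorem V_id (m : F.N) : F.V (AlgHom.id k F.A) m = chr F.e m := by
  rw [V_apply]; simp [bmap]

theorem V_comp (φ : F.A →ₐ[k] S) (f : S →ₐ[k] S') (m : F.N) :
    F.V (f.comp φ) m = bmap E f (F.V φ m) := by
  rw [V_apply, V_apply]
  generalize chr F.e m = z
  induction z using TensorProduct.induction_on with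
  | zero => simp
  | add a b ha hb => simp only [map_add, ha, hb]
  | tmul c s => simp

theorem bmap_eq_ev (φ : F.A →ₐ[k] S) (z : E ⊗[k] F.A) :
    bmap E φ z = ev (Algebra.TensorProduct.includeLeft : E →ₐ[k] E ⊗[k] S)
      ((Algebra.TensorProduct.includeRight : S →ₐ[k] E ⊗[k] S).comp φ) z := by
  induction z using TensorProduct.induction_on with
  | zero => simp
  | add a b ha hb => simp only [map_add, ha, hb]
  | tmul c s => simp

theorem V_cv (φ ψ : F.A →ₐ[k] S) : F.V (cv φ ψ) = F.V φ * F.V ψ := by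
  refine MonoidHom.ext fun m => ?_
  rw [MonoidHom.mul_apply, V_apply, V_apply, V_apply, bmap_eq_ev, bmap_eq_ev, bmap_eq_ev, comp_cv]
  exact ev_cv_of_isGroupLike (isGroupLike_chr F.e m) _ _ _

theorem V_one : F.V (one' k F.A S) = 1 := by
  refine MonoidHom.ext fun m => ?_
  rw [MonoidHom.one_apply, V_apply, bmap_eq_ev, comp_one']
  exact ev_one_of_isGroupLike (isGroupLike_chr F.e m) _

theorem V_equiv (φ : F.A →ₐ[k] S) (g : E ≃ₐ[k] E) (m : F.N) :
    galS g S (F.V φ m) = F.V φ (F.ρ g m) := by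
  rw [V_apply, galS_bmap, galS_chr, V_apply]

theorem V_injective : Function.Injective (F.V (S := S)) := fun φ ψ h => by
  have := point_ext F.e (Algebra.TensorProduct.includeLeft : E →ₐ[k] E ⊗[k] S)
    (g := (Algebra.TensorProduct.includeRight : S →ₐ[k] E ⊗[k] S).comp φ)
    (g' := (Algebra.TensorProduct.includeRight : S →ₐ[k] E ⊗[k] S).comp ψ) fun m => by
      rw [← bmap_eq_ev, ← bmap_eq_ev]
      exact DFunLike.congr_fun h m
  exact AlgHom.ext fun a => Groth.GaloisBrauer.one_tmul_injective (AlgHom.congr_fun this a)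

theorem exists_V [FiniteDimensional k E] [IsGalois k E] (χ : F.N →* E ⊗[k] S)
    (hχ : ∀ g m, galS g S (χ m) = χ (F.ρ g m)) : ∃ φ : F.A →ₐ[k] S, F.V φ = χ := by
  let Φ : MonoidAlgebra E F.N →ₐ[E] E ⊗[k] S := MonoidAlgebra.lift E (E ⊗[k] S) F.N χ
  have hΦ : ∀ (g : E ≃ₐ[k] E) (x : MonoidAlgebra E F.N), galS g S (Φ x) = Φ (galAlg F.ρ g x) := by
    intro g x
    induction x using MonoidAlgebra.induction_linear with
    | zero => simp
    | add a b ha hb => simp only [map_add, ha, hb]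
    | single m c =>
      rw [galAlg_single]
      simp only [Φ, MonoidAlgebra.lift_single, Algebra.smul_def, map_mul, hχ]
      congr 1

  let f : F.A →ₐ[k] E ⊗[k] S :=
    ((Φ.comp (F.e : E ⊗[k] F.A →ₐ[E] MonoidAlgebra E F.N)).restrictScalars k).comp
      Algebra.TensorProduct.includeRight
  have hf : ∀ a, ∃ s, f a = (1 : E) ⊗ₜ[k] s := fun a => exists_of_galS_fixed _ fun g => by
    show galS g S (Φ (F.e ((1 : E) ⊗ₜ a))) = Φ (F.e ((1 : E) ⊗ₜ a))
    rw [hΦ, F.fixed]
  choose s hs using hf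
  have hinj := Groth.GaloisBrauer.one_tmul_injective (k := k) (K := E) (W := S)
  let φ : F.A →ₐ[k] S :=
    { toFun := s
      map_one' := hinj (by show (1 : E) ⊗ₜ[k] s 1 = _; rw [← hs, map_one]; rfl)
      map_mul' := fun a b => hinj (by
        show (1 : E) ⊗ₜ[k] s (a * b) = (1 : E) ⊗ₜ[k] (s a * s b)
        rw [← hs, map_mul, hs, hs, Algebra.TensorProduct.tmul_mul_tmul, _root_.mul_one])
      map_zero' := hinj (by show (1 : E) ⊗ₜ[k] s 0 = _; rw [← hs, map_zero]; simp)
      map_add' := fun a b => hinj (by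
        show (1 : E) ⊗ₜ[k] s (a + b) = (1 : E) ⊗ₜ[k] (s a + s b)
        rw [← hs, map_add, hs, hs, TensorProduct.tmul_add])
      commutes' := fun r => hinj (by
        show (1 : E) ⊗ₜ[k] s (algebraMap k F.A r) = (1 : E) ⊗ₜ[k] algebraMap k S r
        rw [← hs, AlgHom.commutes]
        exact ((Algebra.TensorProduct.includeRight : S →ₐ[k] E ⊗[k] S).commutes r).symm) }
  have hφ : bmap E φ = Φ.comp (F.e : E ⊗[k] F.A →ₐ[E] MonoidAlgebra E F.N) := by
    refine Algebra.TensorProduct.ext' fun c a => ?_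
    show c ⊗ₜ[k] s a = Φ (F.e (c ⊗ₜ[k] a))
    have h1 : (c ⊗ₜ[k] a : E ⊗[k] F.A) = c • ((1 : E) ⊗ₜ[k] a) := by
      rw [TensorProduct.smul_tmul', smul_eq_mul, _root_.mul_one]
    rw [h1, map_smul, map_smul, show Φ (F.e ((1 : E) ⊗ₜ a)) = f a from rfl, hs,
      TensorProduct.smul_tmul', smul_eq_mul, _root_.mul_one]
  refine ⟨φ, MonoidHom.ext fun m => ?_⟩
  rw [V_apply, hφ]
  show Φ (F.e (chr F.e m)) = _
  rw [e_chr]
  simp [Φ]

/-- the group scheme -/
abbrev sch : Over (Spec (CommRingCat.of k)) := CoactBr.sp k F.A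

/-- values of a scheme point on the characters -/
def W (x : CoactBr.sp k S ⟶ F.sch) : F.N →* E ⊗[k] S := F.V (pt_surjective x).choose

theorem W_pt (φ : F.A →ₐ[k] S) : F.W (CoactBr.pt φ) = F.V φ := by
  rw [W, CoactBr.pt_injective (pt_surjective (CoactBr.pt φ)).choose_spec]

theorem W_comp (x : CoactBr.sp k S ⟶ F.sch) (f : S →ₐ[k] S') (m : F.N) :
    F.W (CoactBr.pt f ≫ x) m = bmap E f (F.W x m) := by
  obtain ⟨φ, rfl⟩ := pt_surjective x
  rw [← CoactBr.pt_comp, W_pt, W_pt, V_comp]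

theorem W_mul (x y : CoactBr.sp k S ⟶ F.sch) : F.W (x * y) = F.W x * F.W y := by
  obtain ⟨φ, rfl⟩ := pt_surjective x
  obtain ⟨ψ, rfl⟩ := pt_surjective y
  rw [CoactBr.pt_mul_pt, W_pt, W_pt, W_pt]
  exact F.V_cv φ ψ

theorem W_one : F.W (1 : CoactBr.sp k S ⟶ F.sch) = 1 := by
  rw [CoactBr.one_eq_pt, W_pt]
  exact F.V_one

theorem W_equiv (x : CoactBr.sp k S ⟶ F.sch) (g : E ≃ₐ[k] E) (m : F.N) :
    galS g S (F.W x m) = F.W x (F.ρ g m) := F.V_equiv _ g m

theorem W_injective : Function.Injective (F.W (S := S)) := fun x y h => by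
  obtain ⟨φ, rfl⟩ := pt_surjective x
  obtain ⟨ψ, rfl⟩ := pt_surjective y
  rw [W_pt, W_pt] at h
  rw [F.V_injective h]

theorem exists_W [FiniteDimensional k E] [IsGalois k E] (χ : F.N →* E ⊗[k] S)
    (hχ : ∀ g m, galS g S (χ m) = χ (F.ρ g m)) : ∃ x : CoactBr.sp k S ⟶ F.sch, F.W x = χ := by
  obtain ⟨φ, hφ⟩ := F.exists_V χ hχ
  exact ⟨CoactBr.pt φ, by rw [W_pt, hφ]⟩

theorem commute (x y : CoactBr.sp k S ⟶ F.sch) : x * y = y * x :=
  F.W_injective (by rw [W_mul, W_mul, _root_.mul_comm])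

/-- An equivariant homomorphism of characters gives a homomorphism of group schemes. -/
theorem exists_map [FiniteDimensional k E] [IsGalois k E] (F' : Form k E) (p : F'.N →* F.N)
    (hp : ∀ g m, p (F'.ρ g m) = F.ρ g (p m)) :
    ∃ φ : F'.A →ₐ[k] F.A, IsMonHom (CoactBr.pt φ : F.sch ⟶ F'.sch) ∧ (∀ m, F'.V φ m = chr F.e (p m)) ∧
      ∀ (S : Type u) [CommRing S] [Algebra k S] (x : CoactBr.sp k S ⟶ F.sch),
        F'.W (x ≫ CoactBr.pt φ) = (F.W x).comp p := by
  obtain ⟨φ, hφ⟩ := F'.exists_V ((F.V (AlgHom.id k F.A)).comp p) fun g m => by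
    rw [MonoidHom.comp_apply, MonoidHom.comp_apply, F.V_equiv, hp]
  have hW : ∀ (S : Type u) [CommRing S] [Algebra k S] (x : CoactBr.sp k S ⟶ F.sch),
      F'.W (x ≫ CoactBr.pt φ) = (F.W x).comp p := fun S _ _ x => by
    obtain ⟨ψ, rfl⟩ := pt_surjective x
    refine MonoidHom.ext fun m => ?_
    rw [← CoactBr.pt_comp, W_pt, W_pt, V_comp, hφ, MonoidHom.comp_apply, MonoidHom.comp_apply, ← V_comp]
    rfl
  refine ⟨φ, isMonHom_of_pt _ fun g h => F'.W_injective ?_, fun m => ?_, hW⟩
  · rw [W_mul, hW, hW, hW, W_mul, MonoidHom.mul_comp]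
  · rw [hφ, MonoidHom.comp_apply, V_id]

end Form

end Groth.Misc15.MultH1
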